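import Cfsg.Agent.Lib.ThompsonA.Basic
import Cfsg.Agent.Lib.Fusion.Basic

/-!
A measure on finite subgroups, monotone in the subgroup and invariant under injective maps, whose
equality on comparable subgroups forces equal abelian Thompson subgroups.
-/

set_option autoImplicit false

namespace Cfsg.Agent.Lib.Fusion.SmallCentralizer

open Cfsg Cfsg.Agent.Lib

universe u v

variable {G : Type u} [Group G]

/-- Finite subgroups have abelian subgroups of largest order. -/
theorem exists_maxAb (U : Subgroup G) [Finite U] : ∃ A, A ∈ ThompsonA.maxAbIn U := by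
  obtain ⟨A, hA⟩ := ThompsonA.exists_mem_maxAbIn (⊤ : Subgroup U)
  have h := ThompsonA.map_mem_maxAbIn U.subtype_injective hA
  rw [← MonoidHom.range_eq_map, Subgroup.range_subtype] at h
  exact ⟨_, h⟩

/-- The largest order of an abelian subgroup of `U`. -/
noncomputable def abMax (U : Subgroup G) : ℕ :=
  sSup ((fun A : Subgroup G => Nat.card A) '' {A | IsMulCommutative A ∧ A ≤ U})

theorem abMax_eq {U A : Subgroup G} (hA : A ∈ ThompsonA.maxAbIn U) : abMax U = Nat.card A :=
  IsGreatest.csSup_eq ⟨⟨A, ⟨hA.1, hA.2.1⟩, rfl⟩, fun _ ⟨B, hB, e⟩ => e ▸ hA.2.2 B hB.1 hB.2⟩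

/-- The measure: largest abelian order, refined by the order of the Thompson subgroup. -/
noncomputable def meas (N : ℕ) (U : Subgroup G) : ℕ :=
  abMax U * (N + 1) + Nat.card (thompsonSubgroupAOf U)

theorem card_thompson_le (U : Subgroup G) [Finite U] :
    Nat.card (thompsonSubgroupAOf U) ≤ Nat.card U :=
  Subgroup.card_le_of_le (ThompsonA.thompsonSubgroupAOf_le U)

theorem abMax_le (U : Subgroup G) [Finite U] : abMax U ≤ Nat.card U := by
  obtain ⟨A, hA⟩ := exists_maxAb U
  rw [abMax_eq hA]
  exact Subgroup.card_le_of_le hA.2.1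

theorem meas_lt {N : ℕ} {U : Subgroup G} [Finite U] (hN : Nat.card U ≤ N) :
    meas N U < (N + 1) * (N + 1) := by
  have h1 := (abMax_le U).trans hN
  have h2 := (card_thompson_le U).trans hN
  calc meas N U < abMax U * (N + 1) + (N + 1) := by unfold meas; omega
    _ = (abMax U + 1) * (N + 1) := by ring
    _ ≤ (N + 1) * (N + 1) := Nat.mul_le_mul_right _ (by omega)

theorem meas_mono {N : ℕ} {U X : Subgroup G} [Finite X] (hN : Nat.card X ≤ N) (hUX : U ≤ X) :
    meas N U ≤ meas N X ∧
      (meas N U = meas N X → thompsonSubgroupAOf U = thompsonSubgroupAOf X) := by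
  haveI : Finite U := Finite.of_injective (Subgroup.inclusion hUX)
    (Subgroup.inclusion_injective hUX)
  obtain ⟨A, hA⟩ := exists_maxAb U
  obtain ⟨B, hB⟩ := exists_maxAb X
  have hAB : Nat.card A ≤ Nat.card B := hB.2.2 A hA.1 (hA.2.1.trans hUX)
  have hU := (card_thompson_le U).trans ((Subgroup.card_le_of_le hUX).trans hN)
  unfold meas
  rw [abMax_eq hA, abMax_eq hB]
  rcases hAB.lt_or_eq with h | h
  · have h1 : (Nat.card A + 1) * (N + 1) ≤ Nat.card B * (N + 1) := Nat.mul_le_mul_right _ h
    rw [add_mul, one_mul] at h1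
    exact ⟨by omega, fun e => by omega⟩
  · have hJ : thompsonSubgroupAOf U ≤ thompsonSubgroupAOf X := by
      rw [ThompsonA.thompsonSubgroupAOf_eq_sSup U]
      refine sSup_le fun A' hA' => ThompsonA.le_thompsonSubgroupAOf ⟨hA'.1, hA'.2.1.trans hUX, ?_⟩
      intro C hC hCX
      exact (hB.2.2 C hC hCX).trans (h ▸ hA'.2.2 A hA.1 hA.2.1)
    haveI : Finite (thompsonSubgroupAOf X : Subgroup G) :=
      Finite.of_injective (Subgroup.inclusion (ThompsonA.thompsonSubgroupAOf_le X))
        (Subgroup.inclusion_injective _)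
    refine ⟨?_, fun e => Subgroup.eq_of_le_of_card_ge hJ ?_⟩
    · rw [h]; have := Subgroup.card_le_of_le hJ; omega
    · rw [h] at e; omega

theorem abMax_thompson (U : Subgroup G) [Finite U] :
    abMax (thompsonSubgroupAOf U) = abMax U := by
  obtain ⟨A, hA⟩ := exists_maxAb U
  rw [abMax_eq hA, abMax_eq (A := A) ⟨hA.1, ThompsonA.le_thompsonSubgroupAOf hA,
    fun B hB hBJ => hA.2.2 B hB (hBJ.trans (ThompsonA.thompsonSubgroupAOf_le U))⟩]

theorem thompson_thompson (U : Subgroup G) [Finite U] :
    thompsonSubgroupAOf (thompsonSubgroupAOf U) = thompsonSubgroupAOf U := by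
  obtain ⟨A₀, hA₀⟩ := exists_maxAb U
  rw [ThompsonA.thompsonSubgroupAOf_eq_sSup (thompsonSubgroupAOf U)]
  refine le_antisymm (sSup_le fun A hA => hA.2.1) ?_
  conv_lhs => rw [ThompsonA.thompsonSubgroupAOf_eq_sSup U]
  refine sSup_le fun A hA => le_sSup ⟨hA.1, ThompsonA.le_thompsonSubgroupAOf hA,
    fun B hB hBJ => hA.2.2 B hB (hBJ.trans (ThompsonA.thompsonSubgroupAOf_le U))⟩

theorem meas_thompson (N : ℕ) (U : Subgroup G) [Finite U] :
    meas N (thompsonSubgroupAOf U) = meas N U := by
  unfold meas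
  rw [abMax_thompson, thompson_thompson]

theorem thompson_range {P : Subgroup G} {φ : P →* G} (hφ : Function.Injective φ) :
    thompsonSubgroupAOf φ.range = Fusion.imgSub φ (thompsonSubgroupAOf P) := by
  have h1 : thompsonSubgroupAOf P = (thompsonSubgroupAOf (⊤ : Subgroup P)).map P.subtype := by
    rw [← ThompsonA.thompsonSubgroupAOf_map P.subtype_injective, ← MonoidHom.range_eq_map,
      Subgroup.range_subtype]
  rw [MonoidHom.range_eq_map, ThompsonA.thompsonSubgroupAOf_map hφ, h1, Fusion.imgSub,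
    Subgroup.subgroupOf, Subgroup.comap_map_eq_self_of_injective P.subtype_injective]

theorem meas_range (N : ℕ) {P : Subgroup G} [Finite P] {φ : P →* G}
    (hφ : Function.Injective φ) : meas N φ.range = meas N P := by
  obtain ⟨A, hA⟩ := ThompsonA.exists_mem_maxAbIn (⊤ : Subgroup P)
  have h1 := ThompsonA.map_mem_maxAbIn hφ hA
  have h2 := ThompsonA.map_mem_maxAbIn P.subtype_injective hA
  rw [← MonoidHom.range_eq_map] at h1 h2
  rw [Subgroup.range_subtype] at h2
  unfold meas
  rw [abMax_eq h1, abMax_eq h2, Subgroup.card_map_of_injective hφ,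
    Subgroup.card_map_of_injective P.subtype_injective, thompson_range hφ,
    Fusion.card_imgSub hφ (ThompsonA.thompsonSubgroupAOf_le P)]

end Cfsg.Agent.Lib.Fusion.SmallCentralizer
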