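import Cfsg.Agent.Lib.Fusion.SmallCentralizer.Section
import Cfsg.Agent.Lib.Fusion.SmallCentralizer.Measure
import Cfsg.Agent.Lib.Fusion.ThompsonF

/-!
The abelian Thompson subgroup of `T` is centric and fully normalized, and every element of `C_S(T)`
is congruent modulo it to one fixed by the lifts of its automorphisms.
-/

set_option autoImplicit false
set_option linter.style.haveILetI false

namespace Cfsg.Agent.Lib.Fusion.SmallCentralizer

open Cfsg Cfsg.FusionSystem

universe u

variable {Ω : Type u} [Group Ω] {S T : Subgroup Ω} {F : FusionSystem S} {E : FusionSystem T}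
  {p : ℕ}

theorem thompson_normalizerIn : normalizerIn T (thompsonSubgroupAOf T) = T :=
  le_antisymm inf_le_left (le_inf le_rfl
    (Subgroup.le_normalizer.trans (ThompsonA.normalizer_le T)))

theorem thompson_range_eq [Finite T] (N : ℕ) (hN : Nat.card T ≤ N) {φ : thompsonSubgroupAOf T →* Ω}
    (hφ : φ ∈ E.Hom (thompsonSubgroupAOf T)) : φ.range = thompsonSubgroupAOf T := by
  haveI : Finite (thompsonSubgroupAOf T : Subgroup Ω) :=
    finite_of_le (ThompsonA.thompsonSubgroupAOf_le T)
  have hr : φ.range ≤ T := range_le hφ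
  have h1 := thompson_range (E.injective_of_mem hφ)
  rw [thompson_thompson, imgSub_self] at h1
  rw [← h1]
  exact (meas_mono hN hr).2
    ((meas_range N (E.injective_of_mem hφ)).trans (meas_thompson N T))

theorem thompson_centric [Finite T] : E.IsCentric (thompsonSubgroupAOf T) := by
  refine ⟨ThompsonA.thompsonSubgroupAOf_le T, ?_⟩
  rintro Q ⟨φ, hφ, rfl⟩
  rw [thompson_range_eq (Nat.card T) le_rfl hφ]
  exact centralizerIn_thompsonSubgroupAOf_le T

theorem thompson_fullyNormalized [Finite T] : E.IsFullyNormalized (thompsonSubgroupAOf T) := by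
  refine ⟨ThompsonA.thompsonSubgroupAOf_le T, fun Q _ => ?_⟩
  rw [thompson_normalizerIn]
  exact Subgroup.card_le_of_le inf_le_left

/-- An element of `c Z(J(T))` fixed by lifts of all automorphisms of `J(T)`. -/
theorem exists_base [Fact p.Prime] [Finite S] (hS : IsPGroup p S) (hE : E.IsNormalIn F p)
    {c : Ω} (hc : c ∈ centralizerIn S T) :
    ∃ y ∈ centralizerIn S T, c⁻¹ * y ∈ T ∧
      ∀ α ∈ E.autGroup (thompsonSubgroupAOf T),
        autHom α ∈ extHom F (Subgroup.zpowers y) T ⊥ (thompsonSubgroupAOf T) := by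
  classical
  obtain ⟨hEs, hF, hinv⟩ := id hE.1
  have hTS := hinv.2.1.1
  haveI : Finite T := finite_of_le hTS
  have hTp : IsPGroup p T := hS.to_le hTS
  set J := thompsonSubgroupAOf T with hJdef
  have hJn : E.IsFullyNormalized J := thompson_fullyNormalized
  have hJc : E.IsCentric J := thompson_centric
  obtain ⟨s, hsF, hsQ, hsd, hsT⟩ := exists_section hS hE hJn hJc hc
  letI : CommGroup (Subgroup.center (adj J c)) :=
    { (inferInstance : Group (Subgroup.center (adj J c))) with
      mul_comm := fun u v => Subtype.ext ((Subgroup.mem_center_iff.1 v.2) u) }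
  have hJT : J ≤ T := ThompsonA.thompsonSubgroupAOf_le T
  have hW : adj J c ≤ S := adj_le (hJT.trans hTS) hc.1
  haveI : Finite (adj J c) := finite_of_le hW
  haveI : Finite J := finite_of_le hJT
  set U := (autInducedBy T J).subgroupOf (E.autGroup J) with hU
  have hidx : ¬ p ∣ U.index :=
    (isFullyAutomized_iff.1 (isFullyAutomized_of_isFullyNormalized hTp hEs hJn)).2.2.2
  letI := Fintype.ofFinite (E.autGroup J ⧸ U)
  -- `c` is central in `J⟨c⟩`
  have hcen : adjPt J c ∈ Subgroup.center (adj J c) := by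
    have hle : adj J c ≤ Subgroup.centralizer {c} :=
      sup_le (fun t ht => Subgroup.mem_centralizer_singleton_iff.2 (hc.2 t (hJT ht)))
        (Subgroup.zpowers_le.2 (Subgroup.mem_centralizer_singleton_iff.2 rfl))
    exact Subgroup.mem_center_iff.2 fun w =>
      Subtype.ext (Subgroup.mem_centralizer_singleton_iff.1 (hle w.2))
  let act : E.autGroup J → (Subgroup.center (adj J c) ≃* Subgroup.center (adj J c)) := fun α =>
    Subgroup.centerCongr (s α)
  let f : E.autGroup J → Subgroup.center (adj J c) := fun α => act α ⟨adjPt J c, hcen⟩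
  have hactv : ∀ α (z : Subgroup.center (adj J c)), ((act α z : Subgroup.center (adj J c)) : adj J c) =
      s α z := fun α z => rfl
  have hf_mul : ∀ α β, act α (f β) = f (α * β) := fun α β => Subtype.ext (by
    rw [hactv, hactv, hactv, map_mul, MulAut.mul_apply])
  have hfU : ∀ α, ∀ u ∈ U, f (α * u) = f α := fun α u hu => Subtype.ext (by
    rw [hactv, hactv, map_mul, MulAut.mul_apply]
    exact congrArg (s α) (Subtype.ext (hsT u (Subgroup.mem_subgroupOf.1 hu))))
  set a : Subgroup.center (adj J c) := ∏ w : E.autGroup J ⧸ U, f w.out with hadef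
  have hfix : ∀ α, act α a = a := by
    intro α
    rw [hadef, map_prod]
    refine Eq.trans (Finset.prod_congr rfl fun w _ => ?_)
      (Equiv.prod_comp (MulAction.toPerm α) fun w : E.autGroup J ⧸ U => f w.out)
    rw [hf_mul]
    show f (α * w.out) = f (α • w).out
    obtain ⟨u, hu⟩ := QuotientGroup.mk_out_eq_mul U (α * w.out)
    have e : (α • w) = ((α * w.out : E.autGroup J) : E.autGroup J ⧸ U) := by
      conv_lhs => rw [← QuotientGroup.out_eq' w]
      rfl
    rw [e, hu, hfU _ _ u.2]
  let D₀ : Subgroup (Subgroup.center (adj J c)) :=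
    (J.subgroupOf (adj J c)).subgroupOf (Subgroup.center (adj J c))
  have hD : ∀ α, f α * (⟨adjPt J c, hcen⟩ : Subgroup.center (adj J c))⁻¹ ∈ D₀ := by
    intro α
    rw [mul_comm]
    exact hsd α
  set m := Fintype.card (E.autGroup J ⧸ U) with hm
  have hmp : ¬ p ∣ m := by rwa [hm, ← Nat.card_eq_fintype_card]
  set c₀ : Subgroup.center (adj J c) := ⟨adjPt J c, hcen⟩ with hc₀
  have haD : a * (c₀ ^ m)⁻¹ ∈ D₀ := by
    have h := D₀.prod_mem (t := (Finset.univ : Finset (E.autGroup J ⧸ U)))
      (f := fun w => f w.out * c₀⁻¹) fun w _ => hD w.out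
    rwa [Finset.prod_mul_distrib, Finset.prod_const, inv_pow, Finset.card_univ] at h
  obtain ⟨k, hk⟩ : ∃ k : ℕ, (c₀ ^ m) ^ k = c₀ := by
    refine exists_pow_eq_self_of_coprime ?_
    obtain ⟨n, hn⟩ := ((hS.to_le hW).to_subgroup _) c₀
    exact Nat.Coprime.coprime_dvd_right (orderOf_dvd_of_pow_eq_one hn)
      (((Fact.out : p.Prime).coprime_iff_not_dvd.2 hmp).symm.pow_right n)
  set yc : Subgroup.center (adj J c) := a ^ k with hyc
  have hycD : c⁻¹ * ((yc : adj J c) : Ω) ∈ J := by
    have h : yc * c₀⁻¹ ∈ D₀ := by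
      have h1 := D₀.pow_mem haD k
      rwa [mul_pow, inv_pow, hk] at h1
    rw [mul_comm] at h
    exact h
  have hfixy : ∀ α, s α (yc : adj J c) = (yc : adj J c) := fun α => by
    rw [← hactv, hyc, map_pow, hfix]
  set z : Ω := c⁻¹ * ((yc : adj J c) : Ω) with hz
  have hyz : ((yc : adj J c) : Ω) = c * z := (mul_inv_cancel_left c _).symm
  have hzC : z ∈ centralizerIn S T := by
    refine ⟨hTS (hJT hycD), fun t ht => ?_⟩
    have htJ : t ∈ Subgroup.normalizer (J : Set Ω) := by
      have h : t ∈ normalizerIn T J := by rw [hJdef, thompson_normalizerIn]; exact ht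
      exact h.2
    let αt : E.autGroup J := ⟨conjAut J t htJ,
      autInducedBy_le_autGroup hJT (mem_autInducedBy.2 ⟨t, ht, fun _ => rfl⟩)⟩
    have h := hfixy αt
    have e : (yc : adj J c) = adjPt J c * Subgroup.inclusion le_sup_left (⟨z, hycD⟩ : J) :=
      Subtype.ext hyz
    rw [e, map_mul, hsQ, show s αt (adjPt J c) = adjPt J c from
      Subtype.ext (hsT αt (mem_autInducedBy.2 ⟨t, ht, fun _ => rfl⟩))] at h
    have h2 : t * z * t⁻¹ = z := congrArg Subtype.val (mul_left_cancel h)
    exact mul_inv_eq_iff_eq_mul.1 h2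
  refine ⟨_, hyz ▸ mul_mem hc hzC, hJT hycD, fun α hα => ?_⟩
  exact mem_extHom_of_fix (hinv.1 _ (autGroup_hom_mem hJT hα)) hJT (fun q => hJT (α q).2)
    (autGroup_hom_mem hW (hsF ⟨α, hα⟩)) le_sup_left
    (fun q => congrArg Subtype.val (hsQ ⟨α, hα⟩ q)) (SetLike.coe_mem _)
    (congrArg Subtype.val (hfixy ⟨α, hα⟩))

end Cfsg.Agent.Lib.Fusion.SmallCentralizer
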