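import Cfsg.Agent.Lib.Fusion.GlaubermanJ
import Cfsg.Agent.Lib.Fusion.GroupFusion
import Cfsg.Agent.Lib.ThompsonA.Basic

/-!
An automorphism of `p`-power order of a constrained group (`p` odd) fixing a Sylow subgroup and
trivial modulo a normal self-centralizing `p`-subgroup is trivial, provided it fixes the normalizers
of the subgroups containing the Thompson subgroup of the Sylow subgroup and the normal subgroup.
-/

set_option autoImplicit false
set_option linter.style.haveILetI false

namespace Cfsg.Agent.Lib.Fusion.SmallCentralizer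

open Cfsg Cfsg.Agent.Lib Subgroup

universe u

variable {p : ℕ}

theorem twist_eq_one [Fact p.Prime] {L : Type u} [Group L] [Finite L] (hp : p ≠ 2) (P₀ : Sylow p L)
    {Q : Subgroup L} [hQn : Q.Normal] (hQ : Q ≤ (P₀ : Subgroup L))
    (hc : centralizer (Q : Set L) ≤ Q) {σ : MulAut L} (hord : ∃ k, σ ^ p ^ k = 1)
    (hfix : ∀ r ∈ (P₀ : Subgroup L), σ r = r) (hmod : ∀ l, σ l * l⁻¹ ∈ Q)
    (hN : ∀ X : Subgroup L, thompsonSubgroupAOf (P₀ : Subgroup L) ≤ X → Q ≤ X →
      X ≤ (P₀ : Subgroup L) → (P₀ : Subgroup L) ≤ normalizer (X : Set L) →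
      ∀ l ∈ normalizer (X : Set L), σ l = l) :
    σ = 1 := by
  classical
  haveI : Finite (MulAut L) := Finite.of_injective (fun α : MulAut L => (α : L → L))
    DFunLike.coe_injective
  let A : Subgroup (MulAut L) := zpowers σ
  have hA : ∀ a : A, ∃ n : ℕ, (a : MulAut L) = σ ^ n := fun a => by
    obtain ⟨n, hn⟩ := Submonoid.mem_powers_iff _ _ |>.1
      ((isOfFinOrder_of_finite σ).mem_powers_iff_mem_zpowers.2 a.2)
    exact ⟨n, hn.symm⟩
  have hAfix : ∀ (a : A) (r : L), r ∈ (P₀ : Subgroup L) → (a : MulAut L) r = r := by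
    intro a r hr
    obtain ⟨n, hn⟩ := hA a
    rw [hn]
    induction n generalizing a with
    | zero => rfl
    | succ n ih => rw [pow_succ', MulAut.mul_apply, ih ⟨σ ^ n, pow_mem (mem_zpowers σ) n⟩ rfl,
        hfix r hr]
  have hAmod : ∀ (a : A) (l : L), (a : MulAut L) l * l⁻¹ ∈ Q := by
    intro a l
    obtain ⟨n, hn⟩ := hA a
    rw [hn]
    clear hn
    induction n with
    | zero => rw [pow_zero, MulAut.one_apply, mul_inv_cancel]; exact one_mem Q
    | succ n ih =>
      rw [pow_succ', MulAut.mul_apply]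
      have h := mul_mem (hmod ((σ ^ n) l)) ih
      rwa [mul_assoc, inv_mul_cancel_left] at h
  have hAp : IsPGroup p A := by
    obtain ⟨k, hk⟩ := hord
    obtain ⟨i, -, hi⟩ := (Nat.dvd_prime_pow Fact.out).1 (orderOf_dvd_of_pow_eq_one hk)
    exact IsPGroup.of_card (n := i) ((Nat.card_zpowers σ).trans hi)
  let G := L ⋊[A.subtype] A
  haveI : Finite G := Finite.of_equiv _ SemidirectProduct.equivProd.symm
  let e : ↥(P₀ : Subgroup L) × A →* G := MonoidHom.mk' (fun r => ⟨r.1, r.2⟩) fun r s => by
    refine SemidirectProduct.ext ?_ rfl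
    rw [SemidirectProduct.mul_left]
    show ((r.1 * s.1 : (P₀ : Subgroup L)) : L) = (r.1 : L) * (r.2 : MulAut L) s.1
    rw [hAfix r.2 _ s.1.2]
    rfl
  have he : Function.Injective e := fun r s h => Prod.ext
    (Subtype.ext (congrArg SemidirectProduct.left h)) (congrArg SemidirectProduct.right h)
  have hPp : IsPGroup p e.range := by
    obtain ⟨m, hm⟩ := IsPGroup.iff_card.1 P₀.2
    obtain ⟨n, hn⟩ := IsPGroup.iff_card.1 hAp
    refine IsPGroup.of_card (n := m + n) ?_
    rw [← Nat.card_congr (MonoidHom.ofInjective he).toEquiv, Nat.card_prod, hm, hn, pow_add]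
  have hcard : Nat.card e.range = Nat.card (P₀ : Subgroup L) * Nat.card A := by
    rw [← Nat.card_congr (MonoidHom.ofInjective he).toEquiv, Nat.card_prod]
  have hidx : ¬ p ∣ e.range.index := by
    have h1 := e.range.card_mul_index
    rw [hcard, show Nat.card G = Nat.card L * Nat.card A from
      (Nat.card_congr SemidirectProduct.equivProd).trans (Nat.card_prod _ _),
      ← (P₀ : Subgroup L).card_mul_index] at h1
    have h2 : e.range.index = (P₀ : Subgroup L).index := by
      refine mul_left_cancel₀ (a := Nat.card (P₀ : Subgroup L) * Nat.card A)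
        (mul_ne_zero Nat.card_pos.ne' Nat.card_pos.ne') ?_
      rw [h1]; ring
    rw [h2]
    exact P₀.not_dvd_index
  let P : Sylow p G := hPp.toSylow hidx
  have hPdef : (P : Subgroup G) = e.range := rfl
  -- the normal `p`-subgroup
  let q : G →* L ⧸ Q := MonoidHom.mk' (fun g => (g.left : L ⧸ Q)) fun g h => by
    rw [SemidirectProduct.mul_left, QuotientGroup.mk_mul]
    refine congrArg ((g.left : L ⧸ Q) * ·) (QuotientGroup.eq.2 ?_)
    have h1 := hQn.conj_mem' _ (inv_mem (hAmod g.right h.left)) h.left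
    rw [mul_inv_rev, inv_inv, ← mul_assoc, inv_mul_cancel, one_mul] at h1
    exact h1
  have hker : ∀ g : G, g ∈ q.ker ↔ g.left ∈ Q := fun g => QuotientGroup.eq_one_iff g.left
  have hkerP : q.ker ≤ (P : Subgroup G) := fun g hg =>
    ⟨(⟨g.left, hQ ((hker g).1 hg)⟩, g.right), SemidirectProduct.ext rfl rfl⟩
  have hkerO : q.ker ≤ pCore p G := le_sSup ⟨inferInstance, hPp.to_le hkerP⟩
  have hcG : centralizer (pCore p G : Set G) ≤ pCore p G := by
    refine fun g hg => hkerO ((hker g).2 (hc fun x hx => ?_))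
    have hxk : (SemidirectProduct.inl x : G) ∈ q.ker := (hker _).2 hx
    have h1 := congrArg SemidirectProduct.left (hg _ (hkerO hxk))
    rw [SemidirectProduct.mul_left, SemidirectProduct.mul_left] at h1
    simp only [SemidirectProduct.left_inl, SemidirectProduct.right_inl, map_one,
      MulAut.one_apply] at h1
    rw [show (A.subtype g.right) x = x from hAfix g.right x (hQ hx)] at h1
    exact h1
  let sA : A := ⟨σ, mem_zpowers σ⟩
  set x : G := SemidirectProduct.inr sA with hxdef
  have hx : x ∈ (P : Subgroup G) ⊓ centralizer ((P : Subgroup G) : Set G) := by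
    refine ⟨⟨(1, sA), SemidirectProduct.ext rfl rfl⟩, ?_⟩
    rintro _ ⟨r, rfl⟩
    have hxe : x = e (1, sA) := SemidirectProduct.ext rfl rfl
    rw [hxe, ← map_mul, ← map_mul]
    exact congrArg e (Prod.ext (by simp) (Subtype.ext (by
      obtain ⟨n, hn⟩ := hA r.2
      show (r.2 : MulAut L) * σ = σ * (r.2 : MulAut L)
      rw [hn, ← pow_succ, ← pow_succ'])))
  set M := q.ker ⊔ thompsonSubgroupAOf (P : Subgroup G) with hM
  have hMP : M ≤ (P : Subgroup G) := sup_le hkerP (ThompsonA.thompsonSubgroupAOf_le _)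
  let X : Subgroup L := M.comap SemidirectProduct.inl
  have hXP : X ≤ (P₀ : Subgroup L) := by
    intro l hl
    obtain ⟨r, hr⟩ := hMP hl
    have h1 : (r.1 : L) = l := congrArg SemidirectProduct.left hr
    exact h1 ▸ r.1.2
  have hXnorm : ∀ g ∈ normalizer (thompsonSubgroupAOf (P : Subgroup G) : Set G),
      g.left ∈ normalizer (X : Set L) := by
    intro g hg
    have hgM : conjSub g M = M := by
      show (q.ker ⊔ thompsonSubgroupAOf (P : Subgroup G)).map _ = _
      rw [Subgroup.map_sup]
      exact congrArg₂ (· ⊔ ·)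
        (conjSub_eq_self_iff.2 (by rw [normalizer_eq_top]; exact mem_top g))
        (conjSub_eq_self_iff.2 hg)
    refine conjSub_eq_self_iff.1 (Subgroup.eq_of_le_of_card_ge ?_
      (Subgroup.card_map_of_injective (MulEquiv.injective _)).ge)
    rintro _ ⟨m, hm, rfl⟩
    have h1 : g * SemidirectProduct.inl m * g⁻¹ = SemidirectProduct.inl (g.left * m * g.left⁻¹) := by
      conv_lhs => rw [← SemidirectProduct.inl_left_mul_inr_right g]
      rw [mul_inv_rev, show ∀ a b c : G, a * b * c * (b⁻¹ * a⁻¹) = a * (b * c * b⁻¹) * a⁻¹ from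
        fun a b c => by group, ← map_inv SemidirectProduct.inr, ← SemidirectProduct.inl_aut,
        show (A.subtype g.right) m = m from hAfix g.right m (hXP hm), map_mul, map_mul, map_inv]
    show SemidirectProduct.inl (g.left * m * g.left⁻¹) ∈ M
    rw [← h1, ← hgM]
    exact ⟨_, hm, rfl⟩
  have hQX : Q ≤ X := fun l hl => Subgroup.mem_sup_left ((hker _).2 hl)
  have hJX : thompsonSubgroupAOf (P₀ : Subgroup L) ≤ X := by
    rw [ThompsonA.thompsonSubgroupAOf_eq_sSup]
    refine sSup_le fun A₁ hA₁ => fun l hl => Subgroup.mem_sup_right ?_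
    let A₁' : Subgroup (P₀ : Subgroup L) := A₁.subgroupOf (P₀ : Subgroup L)
    haveI := hA₁.1
    have hmem : A₁'.prod (⊤ : Subgroup A) ∈
        ThompsonA.maxAbIn (⊤ : Subgroup (↥(P₀ : Subgroup L) × A)) := by
      refine ⟨⟨⟨fun a b => Subtype.ext (Prod.ext (Subtype.ext ?_) (Subtype.ext ?_))⟩⟩, le_top,
        fun B hB _ => ?_⟩
      · show (a.1.1 : L) * (b.1.1 : L) = (b.1.1 : L) * (a.1.1 : L)
        exact congrArg Subtype.val
          (mul_comm' (⟨(a.1.1 : L), a.2.1⟩ : A₁) ⟨(b.1.1 : L), b.2.1⟩)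
      · obtain ⟨n, hn⟩ := hA a.1.2
        obtain ⟨m, hm⟩ := hA b.1.2
        show (a.1.2 : MulAut L) * (b.1.2 : MulAut L) = (b.1.2 : MulAut L) * (a.1.2 : MulAut L)
        rw [hn, hm, ← pow_add, ← pow_add, add_comm]
      · haveI := hB
        let B₁ : Subgroup (P₀ : Subgroup L) := B.map (MonoidHom.fst _ _)
        have hle : B ≤ B₁.prod ⊤ := fun b hb => ⟨⟨b, hb, rfl⟩, mem_top _⟩
        have h2 : Nat.card B₁ ≤ Nat.card A₁' := by
          have h3 := hA₁.2.2 (B₁.map (P₀ : Subgroup L).subtype) inferInstance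
            (Subgroup.map_subtype_le _)
          rw [Subgroup.card_map_of_injective (subtype_injective _)] at h3
          exact h3.trans_eq (Nat.card_congr (subgroupOfEquivOfLe hA₁.2.1).toEquiv).symm
        calc Nat.card B ≤ Nat.card (B₁.prod (⊤ : Subgroup A)) := Subgroup.card_le_of_le hle
          _ ≤ Nat.card (A₁'.prod (⊤ : Subgroup A)) := by
              rw [Nat.card_congr (Subgroup.prodEquiv _ _).toEquiv,
                Nat.card_congr (Subgroup.prodEquiv _ _).toEquiv, Nat.card_prod, Nat.card_prod]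
              exact Nat.mul_le_mul_right _ h2
    have h4 := ThompsonA.map_mem_maxAbIn he hmem
    rw [← MonoidHom.range_eq_map, ← hPdef] at h4
    exact ThompsonA.le_thompsonSubgroupAOf h4
      ⟨(⟨l, hA₁.2.1 hl⟩, 1), ⟨hl, mem_top _⟩, SemidirectProduct.ext rfl rfl⟩
  have hXnorm₀ : (P₀ : Subgroup L) ≤ normalizer (X : Set L) := fun r hr =>
    hXnorm (SemidirectProduct.inl r) (ThompsonA.normalizer_le _ (le_normalizer
      ⟨(⟨r, hr⟩, 1), SemidirectProduct.ext rfl rfl⟩))
  have hcomm : ∀ g : G, σ g.left = g.left → g * x = x * g := by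
    intro g hg
    refine SemidirectProduct.ext ?_ ?_
    · rw [SemidirectProduct.mul_left, SemidirectProduct.mul_left, hxdef]
      simp only [SemidirectProduct.left_inr, SemidirectProduct.right_inr, map_one, mul_one, one_mul]
      exact hg.symm
    · rw [SemidirectProduct.mul_right, SemidirectProduct.mul_right, hxdef,
        SemidirectProduct.right_inr]
      obtain ⟨n, hn⟩ := hA g.right
      refine Subtype.ext ?_
      show (g.right : MulAut L) * σ = σ * (g.right : MulAut L)
      rw [hn, ← pow_succ, ← pow_succ']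
  have hcentral := central_of_thompsonA P hcG hx (mem_zpowers x) (Or.inl hp) fun g hg =>
    hcomm g (hN X hJX hQX hXP hXnorm₀ _ (hXnorm g hg))
  refine MulEquiv.ext fun l => ?_
  have h := congrArg SemidirectProduct.left (hcentral (SemidirectProduct.inl l))
  rw [SemidirectProduct.mul_left, SemidirectProduct.mul_left, hxdef] at h
  simp only [SemidirectProduct.left_inr, SemidirectProduct.right_inr, SemidirectProduct.left_inl,
    SemidirectProduct.right_inl, map_one, mul_one, one_mul] at h
  exact h.symm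

end Cfsg.Agent.Lib.Fusion.SmallCentralizer
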