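import Cfsg.Agent.Lib.Fusion.SmallCentralizer.Unique
import Cfsg.Agent.Lib.Fusion.SmallCentralizer.Twist
import Cfsg.Agent.Lib.Fusion.SmallCentralizer.Measure
import Cfsg.Agent.Lib.Fusion.ModelSystems
import Cfsg.Agent.Lib.Fusion.Realized
import Cfsg.Agent.Lib.Fusion.CentralControl

/-!
The inductive step: for a fully normalized centric `Q` with `N_T(Q)` of larger measure, the
automorphisms of `Q` in the subsystem fix `y`, if all maps on larger measure do.
-/

set_option autoImplicit false
set_option linter.style.haveILetI false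

namespace Cfsg.Agent.Lib.Fusion.SmallCentralizer

open Cfsg Cfsg.FusionSystem

universe u

variable {Ω : Type u} [Group Ω] {S T : Subgroup Ω} {F : FusionSystem S} {E : FusionSystem T}
  {p : ℕ}

theorem core_step [Fact p.Prime] [Finite S] (hS : IsPGroup p S) (hE : E.IsNormalIn F p)
    (hp : p ≠ 2) {y : Ω} (hy : y ∈ centralizerIn S T) {Q : Subgroup Ω}
    (hQn : E.IsFullyNormalized Q) (hQc : E.IsCentric Q)
    (hm : meas (Nat.card S) Q < meas (Nat.card S) (normalizerIn T Q))
    (hbig : ∀ (P : Subgroup Ω) (φ : P →* Ω), φ ∈ E.Hom P →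
      meas (Nat.card S) Q < meas (Nat.card S) P → φ ∈ extHom F (Subgroup.zpowers y) T ⊥ P) :
    ∀ α ∈ E.autGroup Q, autHom α ∈ extHom F (Subgroup.zpowers y) T ⊥ Q := by
  obtain ⟨hEs, hF, hinv⟩ := id hE.1
  have hTS := hinv.2.1.1
  haveI : Finite T := finite_of_le hTS
  have hTp : IsPGroup p T := hS.to_le hTS
  have hQT : Q ≤ T := hQn.1
  have hQS : Q ≤ S := hQT.trans hTS
  set R := normalizerIn T Q with hR
  have hQR : Q ≤ R := le_normalizerIn hQT
  have hRT : R ≤ T := inf_le_left
  haveI : Finite R := finite_of_le (hRT.trans hTS)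
  haveI : Finite (adj Q y) := finite_of_le (adj_le hQS hy.1)
  obtain ⟨s, hsF, hsQ, hsd, hsT⟩ := exists_section hS hE hQn hQc hy
  obtain ⟨N, hN⟩ := exists_normalizerSystem E hQT
  obtain ⟨L, _, _, ι, hmod, hnor, hcen⟩ := exists_model_normalizer hTp hEs hQc hQn hN
  obtain ⟨-, hreal, ⟨P₀, hP₀⟩, -⟩ := hmod
  haveI := hnor
  set Qs := (Q.subgroupOf R).map ι with hQs
  let e : Q ≃* Qs :=
    (Subgroup.subgroupOfEquivOfLe hQR).symm.trans (Subgroup.equivMapOfInjective _ ι hreal.1)
  let π : L →* MulAut Q := (MulAut.congr e.symm).toMonoidHom.comp MulAut.conjNormal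
  have hev : ∀ q : Q, (e q : L) = ι (Subgroup.inclusion hQR q) := fun q => rfl
  have hπv : ∀ (l : L) (q : Q), ι (Subgroup.inclusion hQR (π l q)) =
      l * ι (Subgroup.inclusion hQR q) * l⁻¹ := by
    intro l q
    rw [← hev, ← hev, show e (π l q) = MulAut.conjNormal l (e q) by
      simp [π, MulAut.congr], MulAut.conjNormal_apply]
  have hπE : ∀ l, π l ∈ E.autGroup Q := by
    intro l
    obtain ⟨φ, hφ, hφR, hφv⟩ := exists_hom_of_conj hreal (P := Q) hQR (g := l) fun x =>
      ⟨_, hπv l x⟩
    rw [hN Q] at hφ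
    refine (mem_autGroup hQT).2 (mem_congr hφ.1 fun q => ?_)
    exact (congrArg Subtype.val (hreal.1 ((hφv q).trans (hπv l q).symm))).symm
  have hsurj : ∀ α ∈ E.autGroup Q, ∃ l, π l = α := by
    intro α hα
    have hα' := autGroup_hom_mem hQT hα
    have hmem : autHom α ∈ N.Hom Q := by
      rw [hN Q, normalizerHom_eq]
      exact ⟨hα', hQR, fun x => hQR (α x).2, _, restrict_mem hα' (sup_le le_rfl le_rfl),
        fun x => rfl, α, Subgroup.mem_top _, fun x => rfl⟩
    obtain ⟨g, hg⟩ := exists_conj_of_hom hreal hmem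
    exact ⟨g, MulEquiv.ext fun q => Subgroup.inclusion_injective hQR
      (hreal.1 ((hπv g q).trans (hg q).symm))⟩
  let πE : L →* E.autGroup Q := π.codRestrict _ hπE
  let S' : L →* MulAut (adj Q y) := s.comp πE
  let d : L → Q := fun l => ⟨y⁻¹ * (S' l (adjPt Q y) : Ω), hsd (πE l)⟩
  have hS'y : ∀ l, S' l (adjPt Q y) = adjPt Q y * Subgroup.inclusion le_sup_left (d l) := fun l =>
    Subtype.ext (mul_inv_cancel_left y _).symm
  have hd1 : ∀ l, d l = 1 ↔ (S' l (adjPt Q y) : Ω) = y := fun l => by
    rw [hS'y, Subgroup.coe_mul]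
    constructor
    · intro h; rw [h]; exact mul_one y
    · intro h; exact Subtype.ext (mul_eq_left.1 h)
  have hdmul : ∀ l m, d (l * m) = d l * π l (d m) := by
    intro l m
    have h : S' (l * m) (adjPt Q y) = adjPt Q y * Subgroup.inclusion le_sup_left (d l * π l (d m)) := by
      have e1 : S' l (Subgroup.inclusion le_sup_left (d m)) =
          Subgroup.inclusion le_sup_left (π l (d m)) := hsQ (πE l) (d m)
      rw [map_mul, MulAut.mul_apply, hS'y m, map_mul, hS'y l, e1,
        map_mul (Subgroup.inclusion (le_sup_left : Q ≤ adj Q y)), mul_assoc]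
    rw [hS'y] at h
    exact Subgroup.inclusion_injective le_sup_left (mul_left_cancel h)
  have hπR : ∀ r : R, π (ι r) ∈ autInducedBy T Q := by
    intro r
    refine mem_autInducedBy.2 ⟨r, r.2.1, fun q => ?_⟩
    have h1 := hπv (ι r) q
    rw [← map_inv, ← map_mul, ← map_mul] at h1
    exact congrArg Subtype.val (hreal.1 h1)
  have hdR : ∀ r : R, d (ι r) = 1 := fun r => (hd1 _).2 (hsT (πE (ι r)) (hπR r))
  let ιQ : Q →* L := ι.comp (Subgroup.inclusion hQR)
  let σ₀ : L →* L := MonoidHom.mk' (fun l => ιQ (d l) * l) fun l m => by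
    rw [hdmul, map_mul, show ιQ (π l (d m)) = l * ιQ (d m) * l⁻¹ from hπv l (d m)]
    group
  have hσinj : Function.Injective σ₀ := by
    refine (injective_iff_map_eq_one _).2 fun l hl => ?_
    have hl' : ιQ (d l) * l = 1 := hl
    have e1 : l = ι ((Subgroup.inclusion hQR (d l))⁻¹) := by
      rw [map_inv]
      exact eq_inv_of_mul_eq_one_right hl'
    have h1 : d l = 1 := by rw [e1]; exact hdR _
    rw [h1, map_one, one_mul] at hl'
    exact hl'
  let σ : MulAut L :=
    MulEquiv.ofBijective σ₀ ⟨hσinj, Finite.injective_iff_surjective.1 hσinj⟩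
  have hσv : ∀ l, σ l = ιQ (d l) * l := fun l => rfl
  have hσR : ∀ r : R, σ (ι r) = ι r := fun r => by rw [hσv, hdR, map_one, one_mul]
  have hσpow : ∀ (n : ℕ) (l : L), (σ ^ n) l = ιQ (d l ^ n) * l := by
    intro n l
    induction n with
    | zero => rw [pow_zero, pow_zero, map_one, one_mul]; rfl
    | succ n ih =>
      rw [pow_succ', MulAut.mul_apply, ih, map_mul, hσv l, pow_succ, map_mul, ← mul_assoc]
      exact congrArg (· * ιQ (d l) * l) (hσR _)
  haveI : Finite Q := finite_of_le hQS
  obtain ⟨k, hk⟩ := IsPGroup.iff_card.1 (hS.to_le hQS)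
  have hQs_le : Qs ≤ (P₀ : Subgroup L) := by
    rw [hP₀]
    exact Subgroup.map_le_range _ _
  have hσ1 : σ = 1 := by
    refine twist_eq_one hp P₀ hQs_le hcen ⟨k, MulEquiv.ext fun l => ?_⟩ ?_ ?_ ?_
    · rw [hσpow, ← hk, pow_card_eq_one', map_one, one_mul]; rfl
    · intro r hr
      rw [hP₀] at hr
      obtain ⟨r', rfl⟩ := hr
      exact hσR r'
    · intro l
      rw [hσv, mul_inv_cancel_right]
      exact ⟨⟨_, hQR (d l).2⟩, (d l).2, rfl⟩
    intro X hJX hQX hXP hP₀X l hl
    -- the subgroup of `T` with image `X`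
    set X' := (X.comap ι).map R.subtype with hX'
    have hX'R : X' ≤ R := Subgroup.map_subtype_le _
    have hQX' : Q ≤ X' := fun q hq =>
      ⟨⟨q, hQR hq⟩, hQX ⟨⟨q, hQR hq⟩, hq, rfl⟩, rfl⟩
    have hJR : thompsonSubgroupAOf R ≤ X' := by
      have h1 : thompsonSubgroupAOf R = (thompsonSubgroupAOf (⊤ : Subgroup R)).map R.subtype := by
        rw [← ThompsonA.thompsonSubgroupAOf_map R.subtype_injective, ← MonoidHom.range_eq_map,
          Subgroup.range_subtype]
      have h2 : (thompsonSubgroupAOf (⊤ : Subgroup R)).map ι =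
          thompsonSubgroupAOf (P₀ : Subgroup L) := by
        rw [hP₀, MonoidHom.range_eq_map, ThompsonA.thompsonSubgroupAOf_map hreal.1]
      rw [h1]
      refine Subgroup.map_mono (Subgroup.map_le_iff_le_comap.1 ?_)
      rw [h2]
      exact hJX
    have hmX : meas (Nat.card S) Q < meas (Nat.card S) X' := by
      haveI : Finite X' := finite_of_le (hX'R.trans (hRT.trans hTS))
      have hX'S : Nat.card X' ≤ Nat.card S :=
        Subgroup.card_le_of_le (hX'R.trans (hRT.trans hTS))
      refine hm.trans_le ?_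
      rw [← meas_thompson (Nat.card S) R]
      exact (meas_mono hX'S hJR).1
    let St : Subgroup L :=
      { carrier := {l | S' l (adjPt Q y) = adjPt Q y}
        one_mem' := by show S' 1 _ = _; rw [map_one]; rfl
        mul_mem' := fun {a b} ha hb => by
          show S' (a * b) _ = _
          rw [map_mul, MulAut.mul_apply, show S' b _ = _ from hb, show S' a _ = _ from ha]
        inv_mem' := fun {a} ha => by
          show S' a⁻¹ _ = _
          rw [map_inv]
          conv_lhs => rw [← show S' a (adjPt Q y) = adjPt Q y from ha]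
          exact MulAut.inv_apply_self _ _ _ }
    have hsig : ∀ l : L, l ∈ St → σ l = l := fun l hlS => by
      rw [hσv, (hd1 l).2 (congrArg Subtype.val hlS), map_one, one_mul]
    refine hsig l ?_
    set NX := Subgroup.normalizer (X : Set L) with hNX
    have htop : St.subgroupOf NX = ⊤ := by
      refine eq_top_of_coprime_of_sylow _ (P₀.subtype hP₀X) (fun a ha => ?_) fun a ha => ?_
      · have h1 : (a : L) ∈ (P₀ : Subgroup L) := ha
        rw [hP₀] at h1
        obtain ⟨r, hr⟩ := h1
        have h2 : (S' (ι r) (adjPt Q y) : Ω) = y := hsT (πE (ι r)) (hπR r)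
        rw [hr] at h2
        exact Subtype.ext h2
      · have hinX : ∀ x : X', ∀ h : (x : Ω) ∈ R, ι ⟨x, h⟩ ∈ X := by
          rintro ⟨_, w, hw, rfl⟩ h
          exact hw
        obtain ⟨φ, hφ, hφR, hφv⟩ := exists_hom_of_conj hreal (P := X') hX'R (g := (a : L)) fun x => by
          have h1 : (a : L) * ι ⟨x, hX'R x.2⟩ * (a : L)⁻¹ ∈ X :=
            (Subgroup.mem_normalizer_iff.1 a.2 _).1 (hinX x _)
          have h2 := hXP h1
          rw [hP₀] at h2
          exact h2
        rw [hN X'] at hφ
        obtain ⟨ψ, hψ, hψφ, hψy⟩ := exists_of_mem_extHom (hbig X' φ hφ.1 hmX)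
        have hfix : autHom (π (a : L)) ∈ extHom F (Subgroup.zpowers y) T ⊥ Q := by
          refine mem_extHom_of_fix (hinv.1 _ (autGroup_hom_mem hQT (hπE _))) hQT
            (fun q => hQT (π (a : L) q).2) hψ (hQX'.trans le_sup_left) (fun q => ?_) _ hψy
          refine (hψφ (Subgroup.inclusion hQX' q)).trans ?_
          exact congrArg Subtype.val (hreal.1 ((hφv (Subgroup.inclusion hQX' q)).trans
            (hπv (a : L) q).symm))
        have hdvd : orderOf (S' (a : L)) ∣ orderOf a := by
          have h := orderOf_map_dvd S' (a : L)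
          rwa [Subgroup.orderOf_coe] at h
        have hca : (orderOf (S' (a : L))).Coprime p := Nat.Coprime.coprime_dvd_left hdvd ha
        have hF' : S' (a : L) ∈ F.autGroup (adj Q y) := hsF (πE (a : L))
        have hQ' : ∀ q : Q, S' (a : L) (Subgroup.inclusion le_sup_left q) =
            Subgroup.inclusion le_sup_left (π (a : L) q) := hsQ (πE (a : L))
        have hd' : y⁻¹ * (S' (a : L) (adjPt Q y) : Ω) ∈ Q := hsd (πE (a : L))
        have h3 := fix_of_coprime hS hE hQc hy (hπE (a : L)) hF' hQ' hd' hca hfix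
        have h4 : (a : L) ∈ St := by
          have h5 : S' (a : L) (adjPt Q y) = adjPt Q y := Subtype.ext h3
          exact h5
        rw [Subgroup.mem_subgroupOf]
        exact h4
    have h6 : (⟨l, hl⟩ : NX) ∈ St.subgroupOf NX := by rw [htop]; exact Subgroup.mem_top _
    exact Subgroup.mem_subgroupOf.1 h6
  intro α hα
  obtain ⟨l, rfl⟩ := hsurj α hα
  have h1 : ιQ (d l) * l = l := by
    rw [← hσv, hσ1]; rfl
  have h2 : d l = 1 := by
    refine Subgroup.inclusion_injective hQR (hreal.1 ?_)
    rw [map_one, map_one]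
    exact mul_eq_right.1 h1
  refine mem_extHom_of_fix (hinv.1 _ (autGroup_hom_mem hQT (hπE l))) hQT
    (fun q => hQT (π l q).2) (autGroup_hom_mem (adj_le hQS hy.1) (hsF (πE l))) le_sup_left
    (fun q => congrArg Subtype.val (hsQ (πE l) q)) (mem_adj Q y) ((hd1 l).1 h2)

end Cfsg.Agent.Lib.Fusion.SmallCentralizer
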