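import Cfsg.Agent.Lib.Fusion.SmallCentralizer.Core
import Cfsg.Agent.Lib.Fusion.SmallCentralizer.Base

/-!
For `p` odd: if the automorphisms of `J(T)` in a normal subsystem have extensions fixing
`y ∈ C_S(T)` then all its maps have, by descending induction along the Thompson measure; hence the
centralizer of `T` lies in `T` when that of the subsystem does.
-/

set_option autoImplicit false
set_option linter.style.haveILetI false

namespace Cfsg.Agent.Lib.Fusion.SmallCentralizer

open Cfsg Cfsg.FusionSystem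

universe u

variable {Ω : Type u} [Group Ω] {S T : Subgroup Ω} {F : FusionSystem S} {E : FusionSystem T}
  {p : ℕ}

theorem imgSub_comp_inclusion {P Q X : Subgroup Ω} (φ : P →* Ω) (h : Q ≤ P) (hX : X ≤ Q) :
    imgSub (φ.comp (Subgroup.inclusion h)) X = imgSub φ X := by
  ext z
  simp only [mem_imgSub]
  constructor
  · rintro ⟨x, hx, rfl⟩
    exact ⟨Subgroup.inclusion h x, hx, rfl⟩
  · rintro ⟨x, hx, rfl⟩
    exact ⟨⟨x, hX hx⟩, hx, rfl⟩

/-- The maps of `E` which lie in `D` when their source has measure at least `m`. -/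
def measSys (N m : ℕ) (E D : FusionSystem T) [Finite T] (hN : Nat.card T ≤ N) : FusionSystem T where
  Hom P := {φ | φ ∈ E.Hom P ∧ (m ≤ meas N P → φ ∈ D.Hom P)}
  le_of_mem h := E.le_of_mem h.1
  injective_of_mem h := E.injective_of_mem h.1
  conj_mem hP hg := ⟨E.conj_mem hP hg, fun _ => D.conj_mem hP hg⟩
  comp_mem := by
    rintro P Q φ ψ ⟨hφ, hφd⟩ ⟨hψ, hψd⟩ h
    refine ⟨E.comp_mem hφ hψ h, fun hm => D.comp_mem (hφd hm) (hψd (hm.trans ?_)) h⟩
    haveI : Finite P := finite_of_le (src_le hφ)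
    haveI : Finite Q := finite_of_le (src_le hψ)
    rw [← meas_range N (E.injective_of_mem hφ)]
    exact (meas_mono ((Subgroup.card_le_of_le (src_le hψ)).trans hN)
      (by rintro _ ⟨x, rfl⟩; exact h x)).1
  inv_mem := by
    rintro P φ ⟨hφ, hφd⟩
    refine ⟨rangeInv φ (E.injective_of_mem hφ), ⟨rangeInv_mem hφ, fun hm => ?_⟩,
      fun x => rangeInv_apply _ _ x _⟩
    haveI : Finite P := finite_of_le (src_le hφ)
    rw [meas_range N (E.injective_of_mem hφ)] at hm
    exact rangeInv_mem (hφd hm)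

theorem descent [Fact p.Prime] [Finite S] (hS : IsPGroup p S) (hE : E.IsNormalIn F p)
    (hp : p ≠ 2) (hTS : T ≤ S) {y : Ω} (hy : y ∈ centralizerIn S T)
    (hbase : ∀ α ∈ E.autGroup (thompsonSubgroupAOf T),
      autHom α ∈ extHom F (Subgroup.zpowers y) T ⊥ (thompsonSubgroupAOf T)) :
    E ≤ fixSys F E hTS hy := by
  obtain ⟨hEs, hF, hinv⟩ := id hE.1
  haveI : Finite T := finite_of_le hTS
  have hTp : IsPGroup p T := hS.to_le hTS
  set N := Nat.card S with hN
  have hTN : Nat.card T ≤ N := Subgroup.card_le_of_le hTS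
  have hXN : ∀ {X : Subgroup Ω}, X ≤ T → Nat.card X ≤ N := fun h =>
    (Subgroup.card_le_of_le h).trans hTN
  set D := fixSys F E hTS hy with hD
  suffices key : ∀ k m, (N + 1) * (N + 1) ≤ m + k → ∀ (P : Subgroup Ω) (φ : P →* Ω),
      φ ∈ E.Hom P → m ≤ meas N P → φ ∈ D.Hom P from
    fun P φ hφ => key _ 0 (by rw [Nat.zero_add]) P φ hφ (Nat.zero_le _)
  intro k
  induction k with
  | zero =>
    intro m hm P φ hφ hmP
    haveI : Finite P := finite_of_le (src_le hφ)
    exact absurd (meas_lt (hXN (src_le hφ))) (by omega)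
  | succ k ih =>
  intro m hm P φ hφ hmP
  have hbig : ∀ (P : Subgroup Ω) (φ : P →* Ω), φ ∈ E.Hom P → m < meas N P → φ ∈ D.Hom P :=
    fun P φ hφ h => ih (m + 1) (by omega) P φ hφ h
  clear ih hm
  refine ((Fusion87.le_of_autGroup_centric_radical hTp hEs (E := measSys N m E D hTN)
    fun Q hQn hQc _ _ α hα => ?_) P hφ).2 hmP
  have hQT : Q ≤ T := hQn.1
  refine (mem_autGroup hQT).2 ⟨autGroup_hom_mem hQT hα, fun hmQ => autGroup_hom_mem hQT ?_⟩
  rcases hmQ.lt_or_eq with hlt | heq
  · exact (mem_autGroup hQT).2 (hbig Q _ (autGroup_hom_mem hQT hα) hlt)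
  set R := normalizerIn T Q with hR
  have hQR : Q ≤ R := le_normalizerIn hQT
  have hRT : R ≤ T := inf_le_left
  haveI : Finite R := finite_of_le hRT
  haveI : Finite Q := finite_of_le hQT
  have hmono := meas_mono (N := N) (hXN hRT) hQR
  rcases hmono.1.lt_or_eq with hlt | heqR
  · refine (mem_autGroup hQT).2 (mem_fixSys.2 ⟨autGroup_hom_mem hQT hα, ?_⟩)
    exact core_step hS hE hp hy hQn hQc hlt
      (fun P φ hφ h => (hbig P φ hφ (heq.trans_lt h)).2) α hα
  -- now `J(Q) = J(N_T(Q))`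
  set J := thompsonSubgroupAOf Q with hJ
  have hJR : J = thompsonSubgroupAOf R := hmono.2 heqR
  have hJQ : J ≤ Q := ThompsonA.thompsonSubgroupAOf_le Q
  have hJT : J ≤ T := hJQ.trans hQT
  haveI : Finite J := finite_of_le hJT
  have hmJ : meas N J = m := (meas_thompson N Q).trans heq.symm
  set NJ := normalizerIn T J with hNJ
  have hRNJ : R ≤ NJ := fun r hr => ⟨hr.1, ThompsonA.normalizer_le Q hr.2⟩
  have hJNJ : J ≤ NJ := le_normalizerIn hJT
  have hNJT : NJ ≤ T := inf_le_left
  haveI : Finite NJ := finite_of_le hNJT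
  have hmonoJ := meas_mono (N := N) (hXN hNJT) hJNJ
  obtain ⟨hJc, hJfix⟩ : E.IsCentric J ∧ E.autGroup J ≤ D.autGroup J := by
    rcases hmonoJ.1.lt_or_eq with hlt | heqJ
    · obtain ⟨J', hconj, hJ'n⟩ := exists_isFullyNormalized_conj E hJT
      obtain ⟨ρ, hρ, hρv, hρJ⟩ := exists_map_to_fullyNormalized hTp hEs hJ'n hconj
      have hJ'T : J' ≤ T := hJ'n.1
      haveI : Finite J' := finite_of_le hJ'T
      haveI : Finite (normalizerIn T J') := finite_of_le inf_le_left
      have hρQ : ρ.comp (Subgroup.inclusion (hQR.trans hRNJ)) ∈ E.Hom Q := restrict_mem hρ _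
      have hρR : ρ.comp (Subgroup.inclusion hRNJ) ∈ E.Hom R := restrict_mem hρ _
      set Q' := imgSub ρ Q with hQ'
      set R' := imgSub ρ R with hR'
      have hQQ' : E.IsConj Q Q' := ⟨_, hρQ, range_restrict ρ _⟩
      have hJQ' : thompsonSubgroupAOf Q' = J' := by
        rw [hQ', ← range_restrict ρ (hQR.trans hRNJ), thompson_range (E.injective_of_mem hρQ),
          imgSub_comp_inclusion ρ _ hJQ, hρJ]
      have hJR' : thompsonSubgroupAOf R' = J' := by
        rw [hR', ← range_restrict ρ hRNJ, thompson_range (E.injective_of_mem hρR),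
          imgSub_comp_inclusion ρ _ (ThompsonA.thompsonSubgroupAOf_le R), ← hJR, hρJ]
      haveI : Finite (normalizerIn T Q') := finite_of_le inf_le_left
      have hR'eq : R' = normalizerIn T Q' := by
        refine imgSub_eq_of_le_of_card hρ hRNJ (fun z hz => ?_) (hQn.2 Q' hQQ')
        obtain ⟨x, hx, rfl⟩ := mem_imgSub.1 hz
        exact apply_mem_normalizerIn hρ x hx.2
      have hR'T : R' ≤ T := hR'eq.le.trans inf_le_left
      haveI : Finite R' := finite_of_le hR'T
      have hQ'T : Q' ≤ T := (imgSub_le_range ρ).trans (range_le hρ)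
      have hJ'Q' : J' ≤ Q' := hJQ' ▸ ThompsonA.thompsonSubgroupAOf_le Q'
      have hQ'R' : Q' ≤ R' := imgSub_mono ρ hQR
      have hcap : ∀ x ∈ centralizerIn T J', x ∈ R' → x ∈ J' := fun x hx hxR => by
        have h := centralizerIn_thompsonSubgroupAOf_le R'
        rw [hJR'] at h
        exact h ⟨hxR, hx.2⟩
      have hC : centralizerIn T J' ≤ J' := by
        by_cases hU : Q' = Q' ⊔ centralizerIn T J'
        · exact fun x hx => hcap x hx (hQ'R' (hU.ge (Subgroup.mem_sup_right hx)))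
        exfalso
        obtain ⟨n, hn, hnN, hnQ⟩ := exists_mem_normalizerIn hTp
          (le_sup_left : Q' ≤ Q' ⊔ centralizerIn T J') (sup_le hQ'T inf_le_left) hU
        have hle : Q' ≤ Subgroup.normalizer (centralizerIn T J' : Set Ω) := fun q hq => by
          refine conjSub_eq_self_iff.1 ?_
          rw [conjSub_centralizerIn (hQ'T hq), conjSub_eq_self_iff.2
            (hJQ' ▸ ThompsonA.normalizer_le Q' (Subgroup.le_normalizer hq))]
        rw [← SetLike.mem_coe, Subgroup.coe_mul_of_left_le_normalizer_right Q' _ hle] at hn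
        obtain ⟨q, hq, c, hc, rfl⟩ := hn
        have hcN : c ∈ Subgroup.normalizer (Q' : Set Ω) := by
          have h := mul_mem (inv_mem (Subgroup.le_normalizer hq)) hnN
          rwa [inv_mul_cancel_left] at h
        exact hnQ (mul_mem hq (hJ'Q' (hcap c hc (hR'eq.ge ⟨hc.1, hcN⟩))))
      have hJ'c : E.IsCentric J' := isCentric_of_isFullyCentralized
        (isFullyCentralized_of_isFullyNormalized hTp hEs hJ'n) hC
      have hρJ' : ρ.comp (Subgroup.inclusion hJNJ) ∈ E.Hom J := restrict_mem hρ _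
      have hrJ : (ρ.comp (Subgroup.inclusion hJNJ)).range = J' := by rw [range_restrict, hρJ]
      have hmJ' : meas N J' = m := by
        rw [← hrJ, meas_range N (E.injective_of_mem hρJ'), hmJ]
      have hNJ' : meas N J' < meas N (normalizerIn T J') := by
        rw [hmJ', ← hmJ]
        refine hlt.trans_le ?_
        rw [← meas_range N (E.injective_of_mem hρ)]
        exact (meas_mono (X := normalizerIn T J') (hXN inf_le_left)
          (by rintro _ ⟨x, rfl⟩; exact hρv x)).1
      have hfix' := core_step hS hE hp hy hJ'n hJ'c hNJ'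
        fun P φ hφ h => (hbig P φ hφ (hmJ' ▸ h)).2
      have hρD : ρ.comp (Subgroup.inclusion hJNJ) ∈ D.Hom J :=
        restrict_mem (hbig NJ ρ hρ (hmJ ▸ hlt)) hJNJ
      refine ⟨isCentric_of_isConj hJ'c (isConj_symm hconj), fun a ha => ?_⟩
      have hb := congr_mem_autGroup
        (isoOnto _ (E.injective_of_mem hρJ') hrJ) (mem_congr hρJ' fun x => rfl) ha
      have hbD : MulAut.congr (isoOnto _ (E.injective_of_mem hρJ') hrJ) a ∈ D.autGroup J' :=
        (mem_autGroup hJ'T).2 (mem_fixSys.2 ⟨autGroup_hom_mem hJ'T hb, hfix' _ hb⟩)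
      rw [← map_congr_autGroup hρD hrJ] at hbD
      obtain ⟨a', ha', hae⟩ := hbD
      rwa [← (MulAut.congr (isoOnto _ (E.injective_of_mem hρJ') hrJ)).injective hae]
    · have hJNJeq : thompsonSubgroupAOf NJ = J := by
        rw [← hmonoJ.2 heqJ, hJ, thompson_thompson]
      have hNJeq : NJ = T := by
        by_contra hne
        obtain ⟨n, hn, hnN, hnNJ⟩ := exists_mem_normalizerIn hTp hNJT le_rfl hne
        exact hnNJ ⟨hn, hJNJeq ▸ ThompsonA.normalizer_le NJ hnN⟩
      have hJ0 : J = thompsonSubgroupAOf T := by rw [← hJNJeq, hNJeq]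
      rw [hJ0]
      exact ⟨thompson_centric, fun a ha =>
        (mem_autGroup (ThompsonA.thompsonSubgroupAOf_le T)).2
          (mem_fixSys.2 ⟨autGroup_hom_mem (ThompsonA.thompsonSubgroupAOf_le T) ha, hbase a ha⟩)⟩
  -- the automorphisms of `Q`
  haveI := finite_mulAut (S := T) hQT
  have hcop : ∀ a ∈ E.autGroup Q, (orderOf a).Coprime p → a ∈ D.autGroup Q := by
    intro a ha hco
    have haE := autGroup_hom_mem hQT ha
    obtain ⟨γ₀, hγ₀, hγ₀Q, hγ₀d⟩ := exists_aut_of_centric hS hE hQc hy ha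
    haveI := finite_mulAut (S := S) (adj_le (hQT.trans hTS) hy.1)
    obtain ⟨n, hn, hnQ⟩ := TrivialAction.exists_coprime_extension (p := p)
      (le_sup_left : Q ≤ adj Q y) hγ₀Q hco
    have hpair : ((γ₀, a) : MulAut (adj Q y) × MulAut Q) ∈ pairGroup F E Q y :=
      ⟨hγ₀, ha, fun q => Subtype.ext (hγ₀Q q), hγ₀d⟩
    obtain ⟨hγ, -, -, hγd⟩ := (pairGroup F E Q y).pow_mem hpair n
    rw [Prod.pow_fst] at hγ hγd
    set γ := γ₀ ^ n with hγdef
    have haJ : ∀ x : J, a (Subgroup.inclusion hJQ x) ∈ J.subgroupOf Q := by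
      intro x
      have h1 := thompson_range (E.injective_of_mem haE)
      rw [range_autHom, ← hJ] at h1
      exact h1.ge (apply_mem_imgSub (autHom a) _ x.2)
    obtain ⟨aJ, haJE, haJx⟩ := exists_aut_of_hom (restrict_mem haE hJQ) fun x => haJ x
    have hWJ : adj J y ≤ adj Q y := sup_le_sup_right hJQ _
    have hγS := autGroup_hom_mem (adj_le (hQT.trans hTS) hy.1) hγ
    have hγJ : ∀ x : J, autHom γ (Subgroup.inclusion hWJ (Subgroup.inclusion le_sup_left x)) =
        (aJ x : Ω) := fun x => (hnQ (Subgroup.inclusion hJQ x)).trans (haJx x).symm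
    have hdJ : y⁻¹ * autHom γ (Subgroup.inclusion hWJ (adjPt J y)) ∈ J :=
      disp_mem hJc ((le_sup_left : J ≤ adj J y).trans hWJ) hγJ hy (mem_adj Q y) (hQT hγd)
    obtain ⟨δ, hδ, hδx⟩ := exists_aut_adj hγS hWJ (fun x => by rw [hγJ]; exact (aJ x).2) hdJ
    have hδJ : ∀ x : J, δ (Subgroup.inclusion le_sup_left x) =
        Subgroup.inclusion le_sup_left (aJ x) := fun x => Subtype.ext ((hδx _).trans (hγJ x))
    have hδco : (orderOf δ).Coprime p :=
      coprime_of_agree hWJ (fun w => Subtype.ext (hδx w).symm) hn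
    have hfixJ : (δ (adjPt J y) : Ω) = y :=
      fix_of_coprime hS hE hJc hy haJE hδ hδJ (by rw [hδx]; exact hdJ) hδco
        (mem_fixSys.1 (autGroup_hom_mem hJT (hJfix haJE))).2
    rw [hδx] at hfixJ
    exact (mem_autGroup hQT).2 (mem_fixSys.2 ⟨haE, mem_extHom_of_fix (hinv.1 _ haE) hQT
      (fun q => hQT (a q).2) hγS le_sup_left hnQ (mem_adj Q y) hfixJ⟩)
  obtain ⟨R₀, hR₀⟩ := (isFullyAutomized_of_isFullyNormalized hTp hEs hQn).2
  have htop := eq_top_of_coprime_of_sylow ((D.autGroup Q).subgroupOf (E.autGroup Q)) R₀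
    (fun a ha => by
      rw [hR₀] at ha
      exact Subgroup.mem_subgroupOf.2 (autInducedBy_le_autGroup hQT (Subgroup.mem_subgroupOf.1 ha)))
    fun a ha => Subgroup.mem_subgroupOf.2 (hcop _ a.2 (by rwa [Subgroup.orderOf_coe]))
  have h : (⟨α, hα⟩ : E.autGroup Q) ∈ (D.autGroup Q).subgroupOf (E.autGroup Q) := by
    rw [htop]; exact Subgroup.mem_top _
  exact Subgroup.mem_subgroupOf.1 h

/-- For `p` odd, `C_S(T) ≤ T`. -/
theorem centralizerIn_le_of_odd [Fact p.Prime] [Finite S] (hS : IsPGroup p S)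
    (hE : E.IsNormalIn F p)
    (hCE : ∀ Y : Subgroup Ω, Y ≤ centralizerIn S T →
      (∀ C : FusionSystem (centralizerIn S Y), F.IsCentralizerSystem Y C → E.IsSubsystemOf C) →
      Y ≤ T)
    (hp : p ≠ 2) : centralizerIn S T ≤ T := by
  intro c hc
  obtain ⟨y, hy, hcy, hbase⟩ := exists_base hS hE hc
  have hyT := mem_of_le_fixSys hCE (descent hS hE hp hE.1.2.2.2.1.1 hy hbase)
  have h := mul_mem hyT (inv_mem hcy)
  rwa [mul_inv_rev, inv_inv, ← mul_assoc, mul_inv_cancel, one_mul] at h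

end Cfsg.Agent.Lib.Fusion.SmallCentralizer
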