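import Cfsg.Agent.Lib.Fusion.DispLiftExists
import Cfsg.Agent.Lib.Fusion.TrivialAction

/-!
For a normal subsystem `E` over `T`: every map of `E` on an `E`-centric subgroup extends over
`C_S(T)` with displacement in `T`; the part of `E` fixing an element of `C_S(T)`.
-/

set_option autoImplicit false
set_option linter.style.haveILetI false

namespace Cfsg.Agent.Lib.Fusion.SmallCentralizer

open Cfsg Cfsg.FusionSystem
open scoped commutatorElement

universe u

variable {Ω : Type u} [Group Ω] {S T : Subgroup Ω} {F : FusionSystem S} {E : FusionSystem T}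
  {p : ℕ}

theorem commute_of_mem {y : Ω} (hy : y ∈ centralizerIn S T) {t : Ω} (ht : t ∈ T) : Commute t y :=
  hy.2 t ht

/-- The maps of `E` which, on `E`-centric sources, extend over `C_S(T)` with displacement in `T`. -/
def dispSystem (F : FusionSystem S) (E : FusionSystem T) (hTS : T ≤ S) : FusionSystem T where
  Hom P := {φ | φ ∈ E.Hom P ∧ (E.IsCentric P → ∃ ψ ∈ F.Hom (P ⊔ centralizerIn S T),
    (∀ x : P, ψ (Subgroup.inclusion le_sup_left x) = φ x) ∧
    ∀ c : centralizerIn S T, (c : Ω)⁻¹ * ψ (Subgroup.inclusion le_sup_right c) ∈ T)}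
  le_of_mem h := E.le_of_mem h.1
  injective_of_mem h := E.injective_of_mem h.1
  conj_mem := by
    intro P g hP hg
    refine ⟨E.conj_mem hP hg, fun _ => ⟨conjHom (P ⊔ centralizerIn S T) g,
      F.conj_mem (sup_le (hP.trans hTS) inf_le_left) (hTS hg), fun x => rfl, fun c => ?_⟩⟩
    rw [conjHom_apply]
    have h : g * (c : Ω) * g⁻¹ = c := by rw [c.2.2 g hg, mul_inv_cancel_right]
    show (c : Ω)⁻¹ * (g * (c : Ω) * g⁻¹) ∈ T
    rw [h, inv_mul_cancel]
    exact one_mem T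
  comp_mem := by
    rintro P P' φ φ' ⟨hφ, hφd⟩ ⟨hφ', hφ'd⟩ h
    refine ⟨E.comp_mem hφ hφ' h, fun hP => ?_⟩
    obtain ⟨ψ, hψ, hψφ, hψC⟩ := hφd hP
    have hPr := isCentric_of_isConj hP (isConj_range hφ)
    obtain ⟨ψ', hψ', hψ'φ, hψ'C⟩ :=
      hφ'd (isCentric_mono hPr (by rintro _ ⟨x, rfl⟩; exact h x) (src_le hφ'))
    have hdisp : ∀ c : centralizerIn S T,
        (c : Ω)⁻¹ * ψ (Subgroup.inclusion le_sup_right c) ∈ P' := by
      intro c
      have hmem := centralizerIn_le_of_isCentric hPr (show _ ∈ centralizerIn T φ.range from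
        ⟨hψC c, ?_⟩)
      · obtain ⟨w, hw⟩ := hmem
        exact hw ▸ h w
      · rintro _ ⟨x, rfl⟩
        have h1 : Commute (φ x) (c : Ω) := commute_of_mem c.2 (val_mem hφ x)
        have h2 : Commute (φ x) (ψ (Subgroup.inclusion le_sup_right c)) := by
          rw [← hψφ x]
          exact Commute.map (show Commute (Subgroup.inclusion le_sup_left x :
            (P ⊔ centralizerIn S T : Subgroup Ω)) (Subgroup.inclusion le_sup_right c) from
            Subtype.ext (c.2.2 x (src_le hφ x.2))) ψ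
        exact (h1.inv_right.mul_right h2).eq
    have hin : ∀ x, ψ x ∈ P' ⊔ centralizerIn S T := hom_sup_mem ψ
      (fun x => Subgroup.mem_sup_left (by rw [hψφ]; exact h x))
      (fun c => by
        have h1 := mul_mem (Subgroup.mem_sup_right c.2 : (c : Ω) ∈ P' ⊔ centralizerIn S T)
          (Subgroup.mem_sup_left (hdisp c))
        rwa [mul_inv_cancel_left] at h1)
    obtain ⟨χ, hχ, hχx⟩ := exists_comp hψ hψ' hin
    refine ⟨χ, hχ, fun x => ?_, fun c => ?_⟩
    · rw [hχx]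
      show ψ' _ = φ' ⟨φ x, h x⟩
      rw [← hψ'φ]
      exact congrArg ψ' (Subtype.ext (hψφ x))
    · rw [hχx]
      have e : (⟨_, hin (Subgroup.inclusion le_sup_right c)⟩ :
          (P' ⊔ centralizerIn S T : Subgroup Ω)) = Subgroup.inclusion le_sup_right c *
            Subgroup.inclusion le_sup_left ⟨_, hdisp c⟩ :=
        Subtype.ext (mul_inv_cancel_left (c : Ω) _).symm
      rw [e, map_mul, hψ'φ, ← mul_assoc]
      exact mul_mem (hψ'C c) (val_mem hφ' _)
  inv_mem := by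
    rintro P φ ⟨hφ, hφd⟩
    refine ⟨rangeInv φ (E.injective_of_mem hφ), ⟨rangeInv_mem hφ, fun hr => ?_⟩,
      fun x => rangeInv_apply _ _ x _⟩
    have hP := isCentric_of_isConj hr (isConj_symm (isConj_range hφ))
    obtain ⟨ψ, hψ, hψφ, hψC⟩ := hφd hP
    have hPr := isCentric_of_isConj hP (isConj_range hφ)
    obtain ⟨ψ₁, hψ₁, -, hψ₁a, -⟩ := exists_inverse hψ (rfl : ψ.range = ψ.range)
    have hval : ∀ c : centralizerIn S T, ∃ x : P,
        ψ (Subgroup.inclusion le_sup_right c * (Subgroup.inclusion le_sup_left x)⁻¹) = c ∧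
          (c : Ω)⁻¹ * ψ (Subgroup.inclusion le_sup_right c) = φ x := by
      intro c
      obtain ⟨x, hx⟩ := centralizerIn_le_of_isCentric hPr
        (show (c : Ω)⁻¹ * ψ (Subgroup.inclusion le_sup_right c) ∈ centralizerIn T φ.range from
          ⟨hψC c, by
            rintro _ ⟨x, rfl⟩
            have h1 : Commute (φ x) (c : Ω) := commute_of_mem c.2 (val_mem hφ x)
            have h2 : Commute (φ x) (ψ (Subgroup.inclusion le_sup_right c)) := by
              rw [← hψφ x]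
              exact Commute.map (show Commute (Subgroup.inclusion le_sup_left x :
                (P ⊔ centralizerIn S T : Subgroup Ω)) (Subgroup.inclusion le_sup_right c) from
                Subtype.ext (c.2.2 x (src_le hφ x.2))) ψ
            exact (h1.inv_right.mul_right h2).eq⟩)
      refine ⟨x, ?_, hx.symm⟩
      rw [map_mul, map_inv, hψφ, hx]
      group
    have hle : φ.range ⊔ centralizerIn S T ≤ ψ.range := by
      refine sup_le ?_ fun c hc => ?_
      · rintro _ ⟨x, rfl⟩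
        exact ⟨_, hψφ x⟩
      · obtain ⟨x, hx, -⟩ := hval ⟨c, hc⟩
        exact ⟨_, hx⟩
    refine ⟨ψ₁.comp (Subgroup.inclusion hle), restrict_mem hψ₁ hle, ?_, fun c => ?_⟩
    · rintro ⟨_, x, rfl⟩
      refine Eq.trans ?_ (rangeInv_apply φ _ x _).symm
      refine Eq.trans ?_ (hψ₁a (Subgroup.inclusion le_sup_left x) ⟨_, rfl⟩)
      exact congrArg ψ₁ (Subtype.ext (hψφ x).symm)
    · obtain ⟨x, hx, -⟩ := hval c
      have h1 := hψ₁a _ ⟨_, (rfl :
        ψ (Subgroup.inclusion le_sup_right c * (Subgroup.inclusion le_sup_left x)⁻¹) = _)⟩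
      have e : (ψ₁.comp (Subgroup.inclusion hle)) (Subgroup.inclusion le_sup_right c) =
          (c : Ω) * (x : Ω)⁻¹ := Eq.trans (congrArg ψ₁ (Subtype.ext hx.symm :
            Subgroup.inclusion hle (Subgroup.inclusion le_sup_right c) =
              (⟨ψ (Subgroup.inclusion le_sup_right c * (Subgroup.inclusion le_sup_left x)⁻¹),
                _, rfl⟩ : ψ.range))) h1
      rw [e, inv_mul_cancel_left]
      exact inv_mem (src_le hφ x.2)

/-- Every map of a normal subsystem on a centric subgroup extends over `C_S(T)` with displacement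
in `T`. -/
theorem exists_ext_of_centric [Fact p.Prime] [Finite S] (hS : IsPGroup p S)
    (hE : E.IsNormalIn F p) {P : Subgroup Ω} (hP : E.IsCentric P) {φ : P →* Ω}
    (hφ : φ ∈ E.Hom P) :
    ∃ ψ ∈ F.Hom (P ⊔ centralizerIn S T),
      (∀ x : P, ψ (Subgroup.inclusion le_sup_left x) = φ x) ∧
      ∀ c : centralizerIn S T, (c : Ω)⁻¹ * ψ (Subgroup.inclusion le_sup_right c) ∈ T := by
  obtain ⟨hEs, hF, hinv⟩ := id hE.1
  have hTc := hinv.2.1
  have hTS := hTc.1
  haveI : Finite T := finite_of_le hTS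
  have hTp : IsPGroup p T := hS.to_le hTS
  have hstr := stronglyInvariant_of_isWeaklyNormalIn hS hE.1
  refine ((Fusion87.le_of_autGroup_centric_radical hTp hEs (E := dispSystem F E hTS)
    fun Q hQn hQc _ _ a ha => ?_) P hφ).2 hP
  have hQT : Q ≤ T := hQc.1
  refine (mem_autGroup hQT).2 ⟨autGroup_hom_mem hQT ha, fun _ => ?_⟩
  obtain ⟨R, ⟨θ, hθ, hr⟩, hR⟩ := exists_isFullyNormalized_conj F (hQT.trans hTS)
  have hRT : R ≤ T := by
    rw [← hr]
    rintro _ ⟨x, rfl⟩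
    exact stronglyClosed_map hTc hθ x (hQT x.2)
  have hRc : centralizerIn T R ≤ R := by
    have h := (tCentric_of_isCentric hinv hQc).2 θ hθ (hr.le.trans hRT)
    rwa [hr] at h
  obtain ⟨χ, hχ, hχx⟩ := hstr Q Q le_rfl hQT (autHom a) (autGroup_hom_mem hQT ha)
    (fun y => (a y).2) θ hθ
  set e := isoOnto θ (F.injective_of_mem hθ) hr
  have hb : MulAut.congr e a ∈ E.autGroup R := by
    refine (mem_autGroup hRT).2 ?_
    have hle : R ≤ imgSub θ Q := by rw [imgSub_self]; exact hr.ge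
    refine mem_congr (restrict_mem hχ hle) fun y => ?_
    obtain ⟨x, rfl⟩ := e.surjective y
    refine Eq.trans ?_ ((congrArg χ (Subtype.ext rfl : Subgroup.inclusion hle (e x) =
      ⟨θ (Subgroup.inclusion le_rfl x), hle (e x).2⟩)).trans (hχx x _)).symm
    show ((MulAut.congr e a (e x) : R) : Ω) = θ ⟨_, (a x).2⟩
    simp only [MulAut.congr, MulEquiv.coe_mk, Equiv.coe_fn_mk, MulEquiv.trans_apply,
      MulEquiv.symm_apply_apply]
    rfl
  have hd := exists_dispLift hS hE hRT hR hb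
  have hRfc := isFullyCentralized_of_isFullyNormalized hS hF hR
  obtain ⟨hQS, β, hβ, hβa⟩ := DispLift.transport hS hF hQT hθ hr hRfc hRc
    (a := a) (b := MulAut.congr e a) (fun x h => by
      rw [show (⟨θ x, h⟩ : R) = e x from Subtype.ext rfl]
      simp only [MulAut.congr, MulEquiv.coe_mk, Equiv.coe_fn_mk, MulEquiv.trans_apply,
        MulEquiv.symm_apply_apply]
      rfl) hd
  have hle : Q ⊔ centralizerIn S T ≤ cenSup S Q := sup_le_sup_left (centralizerIn_anti hQT) Q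
  exact ⟨(autHom β).comp (Subgroup.inclusion hle),
    restrict_mem (autGroup_hom_mem (cenSup_le hQS) hβ.1) hle, fun x => hβa x,
    fun c => hβ.2.2 (Subgroup.inclusion hle (Subgroup.inclusion le_sup_right c))
      (centralizerIn_anti hQT c.2)⟩

/-- The displacement of such an extension lies in the centre of the image. -/
theorem disp_mem_center {P : Subgroup Ω} (hP : E.IsCentric P) {φ : P →* Ω} (hφ : φ ∈ E.Hom P)
    {U : Subgroup Ω} (hPU : P ≤ U) {ψ : U →* Ω} (hψφ : ∀ x : P, ψ (Subgroup.inclusion hPU x) = φ x)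
    {c : Ω} (hc : c ∈ centralizerIn S T) (hcU : c ∈ U) (ht : c⁻¹ * ψ ⟨c, hcU⟩ ∈ T) :
    c⁻¹ * ψ ⟨c, hcU⟩ ∈ φ.range ⊓ Subgroup.centralizer (φ.range : Set Ω) := by
  have hcen : c⁻¹ * ψ ⟨c, hcU⟩ ∈ Subgroup.centralizer (φ.range : Set Ω) := by
    rintro _ ⟨x, rfl⟩
    have h1 : Commute (φ x) c := commute_of_mem hc (val_mem hφ x)
    have h2 : Commute (φ x) (ψ ⟨c, hcU⟩) := by
      rw [← hψφ x]
      exact Commute.map (show Commute (Subgroup.inclusion hPU x) (⟨c, hcU⟩ : U) from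
        Subtype.ext (hc.2 x (src_le hφ x.2))) ψ
    exact (h1.inv_right.mul_right h2).eq
  exact ⟨centralizerIn_le_of_isCentric (isCentric_of_isConj hP (isConj_range hφ)) ⟨ht, hcen⟩, hcen⟩

/-- A homomorphism fixing `y` fixes its powers. -/
theorem fix_zpowers {P : Subgroup Ω} {y : Ω} {ψ : (P ⊔ Subgroup.zpowers y : Subgroup Ω) →* Ω}
    (h : ψ (Subgroup.inclusion le_sup_right ⟨y, Subgroup.mem_zpowers y⟩) = y)
    (x : Subgroup.zpowers y) : ψ (Subgroup.inclusion le_sup_right x) = x := by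
  obtain ⟨n, hn⟩ := Subgroup.mem_zpowers_iff.1 x.2
  rw [show x = (⟨y, Subgroup.mem_zpowers y⟩ : Subgroup.zpowers y) ^ n from
    Subtype.ext (by simp [hn.symm]), map_zpow, map_zpow, h]
  simp

theorem mem_extHom_of_fix {P : Subgroup Ω} {φ : P →* Ω} (hφ : φ ∈ F.Hom P) (hPT : P ≤ T)
    (hφT : ∀ x : P, φ x ∈ T) {U : Subgroup Ω} {ψ : U →* Ω} (hψ : ψ ∈ F.Hom U) (hPU : P ≤ U)
    (hψφ : ∀ x : P, ψ (Subgroup.inclusion hPU x) = φ x) {y : Ω} (hyU : y ∈ U)
    (hy : ψ ⟨y, hyU⟩ = y) : φ ∈ extHom F (Subgroup.zpowers y) T ⊥ P :=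
  ⟨hφ, hPT, hφT, ψ.comp (Subgroup.inclusion (sup_le hPU (Subgroup.zpowers_le.2 hyU))),
    restrict_mem hψ _, fun x => hψφ x, 1, one_mem _,
    fun x => (fix_zpowers (ψ := ψ.comp (Subgroup.inclusion
      (sup_le hPU (Subgroup.zpowers_le.2 hyU)))) hy x).trans rfl⟩

theorem exists_of_mem_extHom {P : Subgroup Ω} {φ : P →* Ω} {y : Ω}
    (h : φ ∈ extHom F (Subgroup.zpowers y) T ⊥ P) :
    ∃ ψ ∈ F.Hom (P ⊔ Subgroup.zpowers y),
      (∀ x : P, ψ (Subgroup.inclusion le_sup_left x) = φ x) ∧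
      ψ ⟨y, Subgroup.mem_sup_right (Subgroup.mem_zpowers y)⟩ = y := by
  obtain ⟨-, -, -, ψ, hψ, ha, k, hk, hb⟩ := h
  rw [Subgroup.mem_bot] at hk
  refine ⟨ψ, hψ, ha, ?_⟩
  have := hb ⟨y, Subgroup.mem_zpowers y⟩
  rw [hk] at this
  exact this

/-- The maps of `E` having an extension fixing `y`. -/
def fixSys (F : FusionSystem S) (E : FusionSystem T) (hTS : T ≤ S) {y : Ω}
    (hy : y ∈ centralizerIn S T) : FusionSystem T :=
  TrivialAction.extPart F E (Subgroup.zpowers y) ⊥ (Subgroup.zpowers_le.2 hy.1) hTS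
    (exists_bot_conj_of_centralizes
      ((Subgroup.le_centralizer_iff).1 (Subgroup.zpowers_le.2 hy.2)))

theorem mem_fixSys {hTS : T ≤ S} {y : Ω} {hy : y ∈ centralizerIn S T} {P : Subgroup Ω}
    {φ : P →* Ω} :
    φ ∈ (fixSys F E hTS hy).Hom P ↔ φ ∈ E.Hom P ∧ φ ∈ extHom F (Subgroup.zpowers y) T ⊥ P :=
  Iff.rfl

theorem mem_of_le_fixSys [Finite S] {hTS : T ≤ S} {y : Ω} {hy : y ∈ centralizerIn S T}
    (hCE : ∀ Y : Subgroup Ω, Y ≤ centralizerIn S T →
      (∀ C : FusionSystem (centralizerIn S Y), F.IsCentralizerSystem Y C → E.IsSubsystemOf C) →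
      Y ≤ T)
    (h : E ≤ fixSys F E hTS hy) : y ∈ T := by
  refine Subgroup.zpowers_le.1 (hCE _ (Subgroup.zpowers_le.2 hy) fun D hD P φ hφ => ?_)
  rw [hD P]
  obtain ⟨-, hφF, hPT, hφT, ψ, hψ, hψφ, k, hk, hψy⟩ := h P hφ
  rw [Subgroup.mem_bot] at hk
  subst hk
  have hTC : T ≤ centralizerIn S (Subgroup.zpowers y) := fun t ht =>
    ⟨hTS ht, ((Subgroup.le_centralizer_iff).1 (Subgroup.zpowers_le.2 hy.2)) ht⟩
  exact ⟨hφF, hPT.trans hTC, fun x => hTC (hφT x), ψ, hψ, hψφ, fun x => hψy x⟩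

/-- Every commutator of `C_S(T)` lies in `T`. -/
theorem commutator_centralizerIn_le [Fact p.Prime] [Finite S] (hS : IsPGroup p S)
    (hE : E.IsNormalIn F p)
    (hCE : ∀ Y : Subgroup Ω, Y ≤ centralizerIn S T →
      (∀ C : FusionSystem (centralizerIn S Y), F.IsCentralizerSystem Y C → E.IsSubsystemOf C) →
      Y ≤ T) :
    ⁅centralizerIn S T, centralizerIn S T⁆ ≤ T := by
  obtain ⟨hEs, hF, hinv⟩ := id hE.1
  have hTS := hinv.2.1.1
  haveI : Finite T := finite_of_le hTS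
  refine Subgroup.commutator_le.2 fun c hc d hd => ?_
  have hy : ⁅c, d⁆ ∈ centralizerIn S T := by
    rw [commutatorElement_def]
    exact mul_mem (mul_mem (mul_mem hc hd) (inv_mem hc)) (inv_mem hd)
  refine mem_of_le_fixSys (hTS := hTS) (hy := hy) hCE
    (Fusion87.le_of_autGroup_centric_radical (hS.to_le hTS) hEs fun Q hQn hQc _ _ a ha => ?_)
  have hQT : Q ≤ T := hQc.1
  have haE := autGroup_hom_mem hQT ha
  obtain ⟨ψ, hψ, hψa, hψC⟩ := exists_ext_of_centric hS hE hQc haE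
  have hcU : c ∈ Q ⊔ centralizerIn S T := Subgroup.mem_sup_right hc
  have hdU : d ∈ Q ⊔ centralizerIn S T := Subgroup.mem_sup_right hd
  refine (mem_autGroup hQT).2 ⟨haE, mem_extHom_of_fix (hinv.1 _ haE) hQT
    (fun x => hQT (a x).2) hψ le_sup_left hψa
    (Subgroup.mem_sup_right hy) ?_⟩
  obtain ⟨hz, hzc⟩ := disp_mem_center hQc haE le_sup_left hψa hc hcU (hψC ⟨c, hc⟩)
  obtain ⟨hw, -⟩ := disp_mem_center hQc haE le_sup_left hψa hd hdU (hψC ⟨d, hd⟩)
  set z := c⁻¹ * ψ ⟨c, hcU⟩ with hzdef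
  set w := d⁻¹ * ψ ⟨d, hdU⟩ with hwdef
  have hzT : z ∈ T := hQT ((range_autHom a).le hz)
  have hwT : w ∈ T := hQT ((range_autHom a).le hw)
  have hzw : Commute z w := (hzc w hw).symm
  have e : ψ ⟨⁅c, d⁆, Subgroup.mem_sup_right hy⟩ =
      ⁅ψ ⟨c, hcU⟩, ψ ⟨d, hdU⟩⁆ := by
    rw [← map_commutatorElement]
    exact congrArg ψ (Subtype.ext rfl)
  rw [e, show ψ ⟨c, hcU⟩ = c * z from (mul_inv_cancel_left _ _).symm,
    show ψ ⟨d, hdU⟩ = d * w from (mul_inv_cancel_left _ _).symm, commutatorElement_def,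
    commutatorElement_def]
  have h1 : Commute z d := commute_of_mem hd hzT
  have h2 : Commute w c := commute_of_mem hc hwT
  have h3 : Commute z c := commute_of_mem hc hzT
  have h4 : Commute w d := commute_of_mem hd hwT
  calc c * z * (d * w) * (c * z)⁻¹ * (d * w)⁻¹
      = c * (z * d) * w * z⁻¹ * c⁻¹ * w⁻¹ * d⁻¹ := by group
    _ = c * d * (z * (w * z⁻¹)) * c⁻¹ * w⁻¹ * d⁻¹ := by rw [h1.eq]; group
    _ = c * d * (w * c⁻¹) * w⁻¹ * d⁻¹ := by
        rw [(hzw.symm.inv_right).eq, mul_inv_cancel_left]; group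
    _ = c * d * c⁻¹ * d⁻¹ := by rw [h2.inv_right.eq]; group

/-- `T C_S(T) / T` is abelian. -/
theorem commutator_sup_le [Fact p.Prime] [Finite S] (hS : IsPGroup p S)
    (hE : E.IsNormalIn F p)
    (hCE : ∀ Y : Subgroup Ω, Y ≤ centralizerIn S T →
      (∀ C : FusionSystem (centralizerIn S Y), F.IsCentralizerSystem Y C → E.IsSubsystemOf C) →
      Y ≤ T) :
    ⁅T ⊔ centralizerIn S T, T ⊔ centralizerIn S T⁆ ≤ T := by
  have hCC := commutator_centralizerIn_le hS hE hCE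
  have hCN : centralizerIn S T ≤ Subgroup.normalizer (T : Set Ω) := fun c hc =>
    mem_normalizer_of_mem_centralizer hc.2
  refine Subgroup.commutator_le.2 fun g hg h hh => ?_
  rw [← SetLike.mem_coe, Subgroup.coe_mul_of_right_le_normalizer_left T _ hCN] at hg hh
  obtain ⟨t, ht, c, hc, rfl⟩ := hg
  obtain ⟨t', ht', c', hc', rfl⟩ := hh
  have h1 : Commute t' c := commute_of_mem hc ht'
  have h2 : Commute t c' := commute_of_mem hc' ht
  have h3 : Commute t c := commute_of_mem hc ht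
  have h4 : Commute t' c' := commute_of_mem hc' ht'
  have e : ⁅t * c, t' * c'⁆ = ⁅t, t'⁆ * ⁅c, c'⁆ := by
    rw [commutatorElement_def, commutatorElement_def, commutatorElement_def]
    have hcc : c * c' * c⁻¹ ∈ centralizerIn S T := mul_mem (mul_mem hc hc') (inv_mem hc)
    have h5 : Commute t⁻¹ (c * c' * c⁻¹) := (commute_of_mem hcc ht).inv_left
    have h6 : Commute t'⁻¹ (c * c' * c⁻¹ * c'⁻¹) :=
      (commute_of_mem (mul_mem hcc (inv_mem hc')) ht').inv_left
    calc t * c * (t' * c') * (t * c)⁻¹ * (t' * c')⁻¹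
        = t * (c * t') * c' * c⁻¹ * t⁻¹ * c'⁻¹ * t'⁻¹ := by group
      _ = t * t' * ((c * c' * c⁻¹) * t⁻¹) * c'⁻¹ * t'⁻¹ := by rw [← h1.eq]; group
      _ = t * t' * t⁻¹ * ((c * c' * c⁻¹ * c'⁻¹) * t'⁻¹) := by rw [← h5.eq]; group
      _ = t * t' * t⁻¹ * t'⁻¹ * (c * c' * c⁻¹ * c'⁻¹) := by rw [← h6.eq]; group
  show ⁅t * c, t' * c'⁆ ∈ T
  rw [e]
  refine mul_mem ?_ (hCC (Subgroup.commutator_mem_commutator hc hc'))
  rw [commutatorElement_def]
  exact mul_mem (mul_mem (mul_mem ht ht') (inv_mem ht)) (inv_mem ht')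

end Cfsg.Agent.Lib.Fusion.SmallCentralizer
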