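import Cfsg.Agent.Lib.Fusion.SmallCentralizer.Disp
import Cfsg.Agent.Lib.Fusion.StableComplement

/-!
The automorphisms of a fully normalized centric subgroup `Q` of a normal subsystem lift
multiplicatively to `Q⟨y⟩`, for `y ∈ C_S(T)`, the lifts of the automorphisms induced by `T`
fixing `y`.
-/

set_option autoImplicit false
set_option linter.style.haveILetI false

namespace Cfsg.Agent.Lib.Fusion.SmallCentralizer

open Cfsg Cfsg.FusionSystem

universe u

variable {Ω : Type u} [Group Ω] {S T : Subgroup Ω} {F : FusionSystem S} {E : FusionSystem T}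
  {p : ℕ}

/-- `Q⟨y⟩`. -/
abbrev adj (Q : Subgroup Ω) (y : Ω) : Subgroup Ω := Q ⊔ Subgroup.zpowers y

theorem mem_adj (Q : Subgroup Ω) (y : Ω) : y ∈ adj Q y :=
  Subgroup.mem_sup_right (Subgroup.mem_zpowers y)

/-- `y` as an element of `Q⟨y⟩`. -/
abbrev adjPt (Q : Subgroup Ω) (y : Ω) : adj Q y := ⟨y, mem_adj Q y⟩

theorem aut_ext {Q : Subgroup Ω} {y : Ω} {γ δ : MulAut (adj Q y)}
    (hQ : ∀ q : Q, γ (Subgroup.inclusion le_sup_left q) = δ (Subgroup.inclusion le_sup_left q))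
    (hy : γ (adjPt Q y) = δ (adjPt Q y)) : γ = δ := by
  have h : autHom γ = autHom δ := hom_sup_ext (fun q => congrArg Subtype.val (hQ q)) fun x => by
    obtain ⟨n, hn⟩ := Subgroup.mem_zpowers_iff.1 x.2
    rw [show (Subgroup.inclusion le_sup_right x : adj Q y) = adjPt Q y ^ n from
      Subtype.ext (by simp [hn.symm]), autHom_apply, autHom_apply, map_zpow, map_zpow, hy]
  exact MulEquiv.ext fun w => Subtype.ext (DFunLike.congr_fun h w)

theorem adj_le {Q : Subgroup Ω} (hQ : Q ≤ S) {y : Ω} (hy : y ∈ S) : adj Q y ≤ S :=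
  sup_le hQ (Subgroup.zpowers_le.2 hy)

/-- A map preserving `Q` and moving `y` within `yQ` gives an automorphism of `Q⟨y⟩`. -/
theorem exists_aut_adj [Finite S] {Q U : Subgroup Ω} {y : Ω} {ψ : U →* Ω} (hψ : ψ ∈ F.Hom U)
    (hWU : adj Q y ≤ U)
    (hQ : ∀ q : Q, ψ (Subgroup.inclusion hWU (Subgroup.inclusion le_sup_left q)) ∈ Q)
    (hy : y⁻¹ * ψ (Subgroup.inclusion hWU (adjPt Q y)) ∈ Q) :
    ∃ γ ∈ F.autGroup (adj Q y), ∀ w, (γ w : Ω) = ψ (Subgroup.inclusion hWU w) := by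
  haveI : Finite (adj Q y) := finite_of_le (hWU.trans (src_le hψ))
  refine exists_aut_of_hom (restrict_mem hψ hWU) (hom_sup_mem _
    (fun q => Subgroup.mem_sup_left (hQ q)) fun x => ?_)
  obtain ⟨n, hn⟩ := Subgroup.mem_zpowers_iff.1 x.2
  rw [show (Subgroup.inclusion le_sup_right x : adj Q y) = adjPt Q y ^ n from
      Subtype.ext (by simp [hn.symm]), map_zpow]
  refine Subgroup.zpow_mem _ ?_ n
  have h := mul_mem (mem_adj Q y) (Subgroup.mem_sup_left hy : _ ∈ adj Q y)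
  rwa [mul_inv_cancel_left] at h

/-- The displacement at `y` of a map extending an automorphism of a centric `Q` lies in `Q`. -/
theorem disp_mem {Q U : Subgroup Ω} (hQ : E.IsCentric Q) (hQU : Q ≤ U) {ψ : U →* Ω}
    {α : MulAut Q} (hψα : ∀ q : Q, ψ (Subgroup.inclusion hQU q) = α q) {y : Ω}
    (hy : y ∈ centralizerIn S T) (hyU : y ∈ U) (ht : y⁻¹ * ψ ⟨y, hyU⟩ ∈ T) :
    y⁻¹ * ψ ⟨y, hyU⟩ ∈ Q := by
  refine centralizerIn_le_of_isCentric hQ ⟨ht, fun x hx => ?_⟩
  obtain ⟨q, hq⟩ := α.surjective ⟨x, hx⟩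
  have hxq : x = ψ (Subgroup.inclusion hQU q) := by rw [hψα, hq]
  have h1 : Commute x y := commute_of_mem hy (hQ.1 hx)
  have h2 : Commute x (ψ ⟨y, hyU⟩) := by
    rw [hxq]
    exact Commute.map (show Commute (Subgroup.inclusion hQU q) (⟨y, hyU⟩ : U) from
      Subtype.ext (hy.2 q (hQ.1 q.2))) ψ
  exact (h1.inv_right.mul_right h2).eq

/-- Every automorphism in `E` of a centric `Q` extends to `Q⟨y⟩`, moving `y` within `yQ`. -/
theorem exists_aut_of_centric [Fact p.Prime] [Finite S] (hS : IsPGroup p S)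
    (hE : E.IsNormalIn F p) {Q : Subgroup Ω} (hQ : E.IsCentric Q) {y : Ω}
    (hy : y ∈ centralizerIn S T) {α : MulAut Q} (hα : α ∈ E.autGroup Q) :
    ∃ γ ∈ F.autGroup (adj Q y),
      (∀ q : Q, (γ (Subgroup.inclusion le_sup_left q) : Ω) = α q) ∧
      y⁻¹ * (γ (adjPt Q y) : Ω) ∈ Q := by
  obtain ⟨ψ, hψ, hψα, hψC⟩ := exists_ext_of_centric hS hE hQ (autGroup_hom_mem hQ.1 hα)
  have hWU : adj Q y ≤ Q ⊔ centralizerIn S T := sup_le_sup_left (Subgroup.zpowers_le.2 hy) Q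
  have hd := disp_mem hQ le_sup_left hψα hy (Subgroup.mem_sup_right hy) (hψC ⟨y, hy⟩)
  obtain ⟨γ, hγ, hγx⟩ := exists_aut_adj hψ hWU (fun q => (hψα q).symm ▸ (α q).2) hd
  refine ⟨γ, hγ, fun q => (hγx _).trans (hψα q), ?_⟩
  rw [hγx]
  exact hd

/-- The pairs of an automorphism of `Q⟨y⟩` and its restriction in `E`. -/
def pairGroup (F : FusionSystem S) (E : FusionSystem T) (Q : Subgroup Ω) (y : Ω) :
    Subgroup (MulAut (adj Q y) × MulAut Q) where
  carrier := {g | g.1 ∈ F.autGroup (adj Q y) ∧ g.2 ∈ E.autGroup Q ∧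
    (∀ q : Q, g.1 (Subgroup.inclusion le_sup_left q) = Subgroup.inclusion le_sup_left (g.2 q)) ∧
    y⁻¹ * (g.1 (adjPt Q y) : Ω) ∈ Q}
  one_mem' := ⟨one_mem _, one_mem _, fun _ => rfl, by
    show y⁻¹ * y ∈ Q
    rw [inv_mul_cancel]; exact one_mem Q⟩
  mul_mem' := by
    rintro a b ⟨ha, ha2, haQ, hay⟩ ⟨hb, hb2, hbQ, hby⟩
    refine ⟨mul_mem ha hb, mul_mem ha2 hb2, fun q => ?_, ?_⟩
    · rw [Prod.fst_mul, Prod.snd_mul, MulAut.mul_apply, MulAut.mul_apply, hbQ, haQ]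
    · rw [Prod.fst_mul, MulAut.mul_apply,
        show b.1 (adjPt Q y) = adjPt Q y * Subgroup.inclusion le_sup_left ⟨_, hby⟩ from
          Subtype.ext (mul_inv_cancel_left y _).symm, map_mul, haQ, Subgroup.coe_mul, ← mul_assoc]
      exact mul_mem hay (SetLike.coe_mem _)
  inv_mem' := by
    rintro a ⟨ha, ha2, haQ, hay⟩
    have hi : ∀ q : Q, a.1⁻¹ (Subgroup.inclusion le_sup_left q) =
        Subgroup.inclusion le_sup_left (a.2⁻¹ q) := fun q => by
      have h := haQ (a.2⁻¹ q)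
      rw [MulAut.apply_inv_self] at h
      rw [← h, MulAut.inv_apply_self]
    refine ⟨inv_mem ha, inv_mem ha2, hi, ?_⟩
    rw [Prod.fst_inv]
    have e : a.1 (adjPt Q y * Subgroup.inclusion le_sup_left (a.2⁻¹ (⟨_, hay⟩ : Q))⁻¹) =
        adjPt Q y := by
      refine Subtype.ext ?_
      rw [map_mul, haQ, map_inv, MulAut.apply_inv_self, Subgroup.coe_mul]
      show (a.1 (adjPt Q y) : Ω) * (y⁻¹ * (a.1 (adjPt Q y) : Ω))⁻¹ = y
      group
    have e2 : a.1⁻¹ (adjPt Q y) =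
        adjPt Q y * Subgroup.inclusion le_sup_left (a.2⁻¹ (⟨_, hay⟩ : Q))⁻¹ :=
      (congrArg (⇑(a.1⁻¹)) e.symm).trans (MulAut.inv_apply_self _ _ _)
    rw [e2, Subgroup.coe_mul, inv_mul_cancel_left]
    exact (a.2⁻¹ (⟨_, hay⟩ : Q))⁻¹.2

theorem adjPt_conj {Q : Subgroup Ω} {y t : Ω} (hy : y ∈ centralizerIn S T) (ht : t ∈ T) :
    t * (adjPt Q y : Ω) * t⁻¹ = y := by
  show t * y * t⁻¹ = y
  rw [hy.2 t ht, mul_inv_cancel_right]

/-- A multiplicative choice of lifts to `Q⟨y⟩`. -/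
theorem exists_section [Fact p.Prime] [Finite S] (hS : IsPGroup p S) (hE : E.IsNormalIn F p)
    {Q : Subgroup Ω} (hQn : E.IsFullyNormalized Q) (hQc : E.IsCentric Q) {y : Ω}
    (hy : y ∈ centralizerIn S T) :
    ∃ s : E.autGroup Q →* MulAut (adj Q y),
      (∀ α, s α ∈ F.autGroup (adj Q y)) ∧
      (∀ (α : E.autGroup Q) (q : Q), s α (Subgroup.inclusion le_sup_left q) =
        Subgroup.inclusion le_sup_left ((α : MulAut Q) q)) ∧
      (∀ α, y⁻¹ * (s α (adjPt Q y) : Ω) ∈ Q) ∧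
      ∀ α : E.autGroup Q, (α : MulAut Q) ∈ autInducedBy T Q → (s α (adjPt Q y) : Ω) = y := by
  obtain ⟨hEs, hF, hinv⟩ := id hE.1
  have hTS := hinv.2.1.1
  haveI : Finite T := finite_of_le hTS
  have hTp : IsPGroup p T := hS.to_le hTS
  have hQT : Q ≤ T := hQn.1
  have hQS : Q ≤ S := hQT.trans hTS
  have hW : adj Q y ≤ S := adj_le hQS hy.1
  haveI : Finite Q := finite_of_le hQS
  haveI := finite_mulAut (S := S) hW
  haveI := finite_mulAut (S := S) hQS
  let Γ := pairGroup F E Q y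
  let res : Γ →* E.autGroup Q :=
    ((MonoidHom.snd _ _).comp Γ.subtype).codRestrict _ fun g => g.2.2.1
  have hres : Function.Surjective res := by
    intro α
    obtain ⟨γ, hγ, hγQ, hγy⟩ := exists_aut_of_centric hS hE hQc hy α.2
    exact ⟨⟨(γ, α), hγ, α.2, fun q => Subtype.ext (hγQ q), hγy⟩, rfl⟩
  let hat : Subgroup Γ := (autInducedBy (normalizerIn T Q) (adj Q y)).comap
    ((MonoidHom.fst _ _).comp Γ.subtype)
  -- conjugation by `N_T(Q)` gives elements of `hat`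
  have hhat : ∀ t ∈ normalizerIn T Q, ∃ g : Γ, g ∈ hat ∧
      (∀ q : Q, ((res g : MulAut Q) q : Ω) = t * q * t⁻¹) ∧
      ((g : MulAut (adj Q y) × MulAut Q).1 (adjPt Q y) : Ω) = y := by
    intro t ht
    have htW : t ∈ Subgroup.normalizer (adj Q y : Set Ω) := by
      refine conjSub_eq_self_iff.1 ?_
      show (Q ⊔ Subgroup.zpowers y).map _ = _
      rw [Subgroup.map_sup, MonoidHom.map_zpowers]
      refine congrArg₂ (· ⊔ ·) (conjSub_eq_self_iff.2 ht.2) (congrArg Subgroup.zpowers ?_)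
      show t * y * t⁻¹ = y
      exact adjPt_conj (Q := Q) hy ht.1
    refine ⟨⟨(conjAut (adj Q y) t htW, conjAut Q t ht.2), ?_, ?_, fun q => rfl, ?_⟩, ?_, fun q => rfl,
      adjPt_conj hy ht.1⟩
    · exact autInducedBy_le_autGroup hW (mem_autInducedBy.2 ⟨t, hTS ht.1, fun _ => rfl⟩)
    · exact autInducedBy_le_autGroup hQT (mem_autInducedBy.2 ⟨t, ht.1, fun _ => rfl⟩)
    · show y⁻¹ * (t * (adjPt Q y : Ω) * t⁻¹) ∈ Q
      rw [adjPt_conj hy ht.1, inv_mul_cancel]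
      exact one_mem Q
    · exact mem_autInducedBy.2 ⟨t, ht, fun _ => rfl⟩
  let K : Subgroup Γ := res.ker
  have hKQ : ∀ g ∈ K, ∀ q : Q, (g : MulAut (adj Q y) × MulAut Q).1
      (Subgroup.inclusion le_sup_left q) = Subgroup.inclusion le_sup_left q := by
    intro g hg q
    rw [g.2.2.2.1 q]
    have h : (g : MulAut (adj Q y) × MulAut Q).2 = 1 := congrArg Subtype.val (MonoidHom.mem_ker.1 hg)
    rw [h]; rfl
  have hext : ∀ g h : Γ, res g = res h →
      (g : MulAut (adj Q y) × MulAut Q).1 (adjPt Q y) = (h : MulAut (adj Q y) × MulAut Q).1 (adjPt Q y) →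
      g = h := by
    intro g h hgh hyy
    have h2 : (g : MulAut (adj Q y) × MulAut Q).2 = (h : MulAut (adj Q y) × MulAut Q).2 :=
      congrArg Subtype.val hgh
    exact Subtype.ext (Prod.ext (aut_ext (fun q => by rw [g.2.2.2.1, h.2.2.2.1, h2]) hyy) h2)
  -- the displacement of an element of the kernel is central in `Q`
  have hcen : ∀ g ∈ K, ∀ x ∈ Q, Commute x (y⁻¹ * ((g : MulAut (adj Q y) × MulAut Q).1 (adjPt Q y) : Ω)) := by
    intro g hg x hx
    have h0 : Commute (Subgroup.inclusion le_sup_left (⟨x, hx⟩ : Q) : adj Q y) (adjPt Q y) :=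
      Subtype.ext (hy.2 x (hQT hx))
    have h := h0.map (g : MulAut (adj Q y) × MulAut Q).1
    rw [hKQ g hg] at h
    exact (commute_of_mem hy (hQT hx)).inv_right.mul_right (congrArg Subtype.val h.eq)
  have hKy : ∀ g ∈ K, ∀ h ∈ K,
      ((g * h : Γ) : MulAut (adj Q y) × MulAut Q).1 (adjPt Q y) =
        adjPt Q y *
          (Subgroup.inclusion le_sup_left (⟨_, g.2.2.2.2⟩ : Q) *
            Subgroup.inclusion le_sup_left (⟨_, h.2.2.2.2⟩ : Q)) := by
    intro g hg h hh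
    have e1 : ∀ g : Γ, (g : MulAut (adj Q y) × MulAut Q).1 (adjPt Q y) =
        adjPt Q y * Subgroup.inclusion le_sup_left (⟨_, g.2.2.2.2⟩ : Q) := fun g =>
      Subtype.ext (mul_inv_cancel_left y _).symm
    calc ((g * h : Γ) : MulAut (adj Q y) × MulAut Q).1 (adjPt Q y)
        = (g : MulAut (adj Q y) × MulAut Q).1 ((h : MulAut (adj Q y) × MulAut Q).1 (adjPt Q y)) := rfl
      _ = (g : MulAut (adj Q y) × MulAut Q).1
          (adjPt Q y * Subgroup.inclusion le_sup_left (⟨_, h.2.2.2.2⟩ : Q)) := congrArg _ (e1 h)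
      _ = _ := by
          rw [map_mul, hKQ g hg]
          exact (congrArg (· * _) (e1 g)).trans (mul_assoc _ _ _)
  have hab : ∀ a ∈ K, ∀ b ∈ K, a * b = b * a := by
    intro a ha b hb
    refine hext _ _ (by rw [map_mul, map_mul, MonoidHom.mem_ker.1 ha, MonoidHom.mem_ker.1 hb]) ?_
    rw [hKy a ha b hb, hKy b hb a ha]
    exact congrArg (adjPt Q y * ·) (Subtype.ext (hcen b hb _ a.2.2.2.2).eq)
  have hKp : IsPGroup p K := by
    intro g
    obtain ⟨k, hk⟩ := (hS.to_le hQS) ⟨_, (g : Γ).2.2.2.2⟩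
    refine ⟨k, Subtype.ext (hext _ 1 ?_ ?_)⟩
    · rw [map_one]; exact MonoidHom.mem_ker.1 (g ^ p ^ k).2
    suffices h : ∀ n : ℕ, (((g : Γ) ^ n : Γ) : MulAut (adj Q y) × MulAut Q).1 (adjPt Q y) =
        adjPt Q y * Subgroup.inclusion le_sup_left ((⟨_, (g : Γ).2.2.2.2⟩ : Q) ^ n) by
      rw [SubmonoidClass.coe_pow, h, hk, map_one, mul_one]
      rfl
    intro n
    induction n with
    | zero => rw [pow_zero, pow_zero, map_one, mul_one]; rfl
    | succ n ih =>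
      rw [pow_succ', Subgroup.coe_mul, Prod.fst_mul, MulAut.mul_apply, ih, map_mul, hKQ _ g.2,
        pow_succ' (⟨_, (g : Γ).2.2.2.2⟩ : Q), map_mul, ← mul_assoc]
      exact congrArg (· * _) (Subtype.ext (mul_inv_cancel_left y _).symm)
  have hmap : hat.map res = (autInducedBy T Q).subgroupOf (E.autGroup Q) := by
    refine le_antisymm ?_ fun α hα => ?_
    · rintro _ ⟨g, hg, rfl⟩
      obtain ⟨t, ht, htx⟩ := mem_autInducedBy.1 hg
      refine Subgroup.mem_subgroupOf.2 (mem_autInducedBy.2 ⟨t, ht.1, fun q => ?_⟩)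
      exact (congrArg Subtype.val (g.2.2.2.1 q)).symm.trans (htx _)
    · obtain ⟨t, htN, htT, hte⟩ := mem_autInducedBy_normalizer.1 (Subgroup.mem_subgroupOf.1 hα)
      obtain ⟨g, hg, hgQ, -⟩ := hhat t ⟨htT, htN⟩
      exact ⟨g, hg, Subtype.ext (MulEquiv.ext fun q => Subtype.ext (by rw [hgQ, hte]; rfl))⟩
  have hcop : (Nat.card K).Coprime (hat ⊔ K).index := by
    obtain ⟨-, hsyl⟩ := isFullyAutomized_iff.1 (isFullyAutomized_of_isFullyNormalized hTp hEs hQn)
    have e : hat ⊔ K = ((autInducedBy T Q).subgroupOf (E.autGroup Q)).comap res := by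
      rw [← hmap, Subgroup.comap_map_eq]
    rw [e, Subgroup.index_comap_of_surjective _ hres]
    obtain ⟨n, hn⟩ := IsPGroup.iff_card.1 hKp
    rw [hn]
    exact Nat.Coprime.pow_left n ((Fact.out : p.Prime).coprime_iff_not_dvd.2 hsyl.2.2)
  have hdisj : hat ⊓ K = ⊥ := by
    rw [_root_.eq_bot_iff]
    rintro g ⟨hg, hgK⟩
    rw [Subgroup.mem_bot]
    obtain ⟨t, ht, htx⟩ := mem_autInducedBy.1 hg
    refine hext g 1 (by rw [map_one]; exact MonoidHom.mem_ker.1 hgK) (Subtype.ext ?_)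
    exact (htx _).trans (adjPt_conj hy ht.1)
  have hQUc : ∀ {U : Subgroup Ω}, Q ≤ U → U ≤ T → E.IsCentric U := fun h1 h2 =>
    isCentric_mono hQc h1 h2
  obtain ⟨Cc, hhatC, hCK, hCtop⟩ := exists_complement_of_stable (N := K) (T := hat) hab hdisj hcop
    fun x => by
    have hφ := autGroup_hom_mem hQT (x.2.2.1)
    set α : MulAut Q := (x : MulAut (adj Q y) × MulAut Q).2
    obtain ⟨αh, hαh, hαhQ⟩ := (isReceptive_of_isFullyNormalized hTp hEs hQn).2 Q _ hφ
      (range_autHom α)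
    set QU := extender T Q (autHom α) with hQU
    have hQUT : QU ≤ T := (extender_le_normalizerIn Q _).trans inf_le_left
    obtain ⟨ψ, hψ, hψh, hψC⟩ := exists_ext_of_centric hS hE (hQUc (le_extender hφ) hQUT) hαh
    have hQUU : Q ≤ QU ⊔ centralizerIn S T := (le_extender hφ).trans le_sup_left
    have hψα : ∀ q : Q, ψ (Subgroup.inclusion hQUU q) = α q := fun q =>
      (hψh ⟨q, le_extender hφ q.2⟩).trans (hαhQ q q.2 _)
    have hWU : adj Q y ≤ QU ⊔ centralizerIn S T :=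
      sup_le hQUU ((Subgroup.zpowers_le.2 hy).trans le_sup_right)
    have hd := disp_mem hQc hQUU hψα hy (Subgroup.mem_sup_right hy) (hψC ⟨y, hy⟩)
    obtain ⟨γ, hγ, hγx⟩ := exists_aut_adj hψ hWU (fun q => by
      rw [show Subgroup.inclusion hWU (Subgroup.inclusion le_sup_left q) =
        Subgroup.inclusion hQUU q from rfl, hψα]
      exact (α q).2) hd
    let g : Γ := ⟨(γ, α), hγ, x.2.2.1, fun q => Subtype.ext ((hγx _).trans (hψα q)), by
      rw [hγx]; exact hd⟩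
    refine ⟨g * x⁻¹, MonoidHom.mem_ker.2 (by
      rw [map_mul, map_inv, mul_inv_eq_one]; exact rfl), fun t ht hxt => ?_⟩
    rw [show g * x⁻¹ * (x * t * x⁻¹) * (g * x⁻¹)⁻¹ = g * t * g⁻¹ by group]
    obtain ⟨τ, hτ, hτx⟩ := mem_autInducedBy.1 (show
      (t : MulAut (adj Q y) × MulAut Q).1 ∈ autInducedBy (normalizerIn T Q) (adj Q y) from ht)
    have hτU : τ ∈ QU := by
      rw [← Subgroup.comap_map_eq, hmap] at hxt
      obtain ⟨h, hh, hhx⟩ := mem_autInducedBy.1 (Subgroup.mem_subgroupOf.1 hxt)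
      refine mem_extender.2 ⟨hτ.1, hτ.2, h, hh, fun q hq => ?_⟩
      rw [autHom_apply, autHom_apply]
      refine Eq.trans ?_ (hhx (α q))
      show _ = ((α * (t : MulAut (adj Q y) × MulAut Q).2 * α⁻¹) (α q) : Ω)
      rw [MulAut.mul_apply, MulAut.mul_apply, MulAut.inv_apply_self]
      refine congrArg (fun z : Q => (α z : Ω)) (Subtype.ext ?_)
      exact (hτx _).symm.trans (congrArg Subtype.val (t.2.2.2.1 q))
    set τ' := ψ (Subgroup.inclusion le_sup_left (⟨τ, hτU⟩ : QU)) with hτ'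
    have hval : ∀ w : adj Q y,
        (((g * t * g⁻¹ : Γ) : MulAut (adj Q y) × MulAut Q).1 w : Ω) = τ' * (w : Ω) * τ'⁻¹ := by
      intro w
      obtain ⟨v, rfl⟩ := γ.surjective w
      show (γ ((t : MulAut (adj Q y) × MulAut Q).1 (γ⁻¹ (γ v))) : Ω) = _
      rw [MulAut.inv_apply_self, hγx, hγx,
        show Subgroup.inclusion hWU ((t : MulAut (adj Q y) × MulAut Q).1 v) =
          Subgroup.inclusion le_sup_left (⟨τ, hτU⟩ : QU) * Subgroup.inclusion hWU v *
            (Subgroup.inclusion le_sup_left (⟨τ, hτU⟩ : QU))⁻¹ from Subtype.ext (hτx v),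
        map_mul, map_mul, map_inv]
    refine mem_autInducedBy.2 ⟨τ', ⟨?_, mem_normalizer_of_aut
      (α := ((g * t * g⁻¹ : Γ) : MulAut (adj Q y) × MulAut Q).2) fun q => ?_⟩, hval⟩
    · rw [hτ', hψh]
      exact val_mem hαh _
    · exact (congrArg Subtype.val ((g * t * g⁻¹ : Γ).2.2.2.1 q)).symm.trans (hval _)
  have hbij : Function.Bijective (res.comp Cc.subtype) := by
    refine ⟨(injective_iff_map_eq_one _).2 fun c hc => Subtype.ext ?_, fun α => ?_⟩
    · have h : (c : Γ) ∈ Cc ⊓ K := ⟨c.2, MonoidHom.mem_ker.2 hc⟩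
      rw [hCK] at h
      exact Subgroup.mem_bot.1 h
    · obtain ⟨g, rfl⟩ := hres α
      obtain ⟨c, hc, k, hk, rfl⟩ := Subgroup.mem_sup_of_normal_right.1 (hCtop.ge (Subgroup.mem_top g))
      exact ⟨⟨c, hc⟩, by
        rw [map_mul, MonoidHom.mem_ker.1 hk, mul_one]; rfl⟩
  let e := MulEquiv.ofBijective _ hbij
  let s : E.autGroup Q →* MulAut (adj Q y) :=
    (((MonoidHom.fst _ _).comp Γ.subtype).comp Cc.subtype).comp e.symm.toMonoidHom
  have hes : ∀ α, ((e.symm α : Cc) : MulAut (adj Q y) × MulAut Q).2 = α := fun α =>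
    congrArg Subtype.val (e.apply_symm_apply α)
  refine ⟨s, fun α => (e.symm α).1.2.1, fun α q => ?_, fun α => (e.symm α).1.2.2.2.2, fun α hα => ?_⟩
  · have h := (e.symm α).1.2.2.2.1 q
    rw [hes α] at h
    exact h
  · obtain ⟨t, htN, htT, hte⟩ := mem_autInducedBy_normalizer.1 hα
    obtain ⟨g, hg, hgQ, hgy⟩ := hhat t ⟨htT, htN⟩
    have h1 : e.symm α = ⟨g, hhatC hg⟩ := e.injective (by
      rw [e.apply_symm_apply]
      refine Subtype.ext (MulEquiv.ext fun q => Subtype.ext ?_)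
      rw [hte]
      exact (hgQ q).symm)
    show ((((e.symm α : Cc) : Γ) : MulAut (adj Q y) × MulAut Q).1 (adjPt Q y) : Ω) = y
    rw [h1]
    exact hgy

end Cfsg.Agent.Lib.Fusion.SmallCentralizer
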