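import Cfsg.Agent.Lib.Fusion.SmallCentralizer.Section

/-!
An automorphism of order prime to `p` of a centric subgroup `Q` of a normal subsystem has only one
lift of order prime to `p` to `Q⟨y⟩` moving `y` within `yQ`.
-/

set_option autoImplicit false
set_option linter.style.haveILetI false

namespace Cfsg.Agent.Lib.Fusion.SmallCentralizer

open Cfsg Cfsg.FusionSystem

universe u

variable {Ω : Type u} [Group Ω] {S T : Subgroup Ω} {F : FusionSystem S} {E : FusionSystem T}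
  {p : ℕ}

theorem agree_pow {Q W : Subgroup Ω} (hQW : Q ≤ W) {γ : MulAut W} {α : MulAut Q}
    (h : ∀ q : Q, γ (Subgroup.inclusion hQW q) = Subgroup.inclusion hQW (α q)) (n : ℕ) (q : Q) :
    (γ ^ n) (Subgroup.inclusion hQW q) = Subgroup.inclusion hQW ((α ^ n) q) := by
  induction n with
  | zero => rfl
  | succ n ih => rw [pow_succ', pow_succ', MulAut.mul_apply, MulAut.mul_apply, ih, h]

theorem coprime_of_agree {Q W : Subgroup Ω} (hQW : Q ≤ W) {γ : MulAut W} {α : MulAut Q}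
    (h : ∀ q : Q, γ (Subgroup.inclusion hQW q) = Subgroup.inclusion hQW (α q))
    (hco : (orderOf γ).Coprime p) : (orderOf α).Coprime p := by
  refine Nat.Coprime.coprime_dvd_left (orderOf_dvd_of_pow_eq_one (MulEquiv.ext fun q => ?_)) hco
  have h1 := agree_pow hQW h (orderOf γ) q
  rw [pow_orderOf_eq_one] at h1
  exact (Subgroup.inclusion_injective hQW h1).symm

theorem pow_fix {W : Subgroup Ω} {γ : MulAut W} {w : W} (h : γ w = w) (n : ℕ) :
    (γ ^ n) w = w := by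
  induction n with
  | zero => rfl
  | succ n ih => rw [pow_succ', MulAut.mul_apply, ih, h]

/-- The difference of the displacements of two lifts of an automorphism of order prime to `p` is
fixed. -/
theorem fixed_disp_diff [Fact p.Prime] [Finite S] (hS : IsPGroup p S) (hE : E.IsNormalIn F p)
    {Q : Subgroup Ω} (hQc : E.IsCentric Q) {y : Ω} (hy : y ∈ centralizerIn S T) {α : MulAut Q}
    (hα : α ∈ E.autGroup Q) (hco : (orderOf α).Coprime p) {γ₁ γ₂ : MulAut (adj Q y)}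
    (hγ₁ : γ₁ ∈ F.autGroup (adj Q y)) (hγ₂ : γ₂ ∈ F.autGroup (adj Q y))
    (h₁ : ∀ q : Q, γ₁ (Subgroup.inclusion le_sup_left q) = Subgroup.inclusion le_sup_left (α q))
    (h₂ : ∀ q : Q, γ₂ (Subgroup.inclusion le_sup_left q) = Subgroup.inclusion le_sup_left (α q))
    {z₁ z₂ : Q} (hz₁ : γ₁ (adjPt Q y) = adjPt Q y * Subgroup.inclusion le_sup_left z₁)
    (hz₂ : γ₂ (adjPt Q y) = adjPt Q y * Subgroup.inclusion le_sup_left z₂) :
    α (z₁⁻¹ * z₂) = z₁⁻¹ * z₂ := by
  obtain ⟨hEs, hF, hinv⟩ := id hE.1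
  have hTc := hinv.2.1
  have hTS := hTc.1
  have hstr := stronglyInvariant_of_isWeaklyNormalIn hS hE.1
  have hQT : Q ≤ T := hQc.1
  have hQS : Q ≤ S := hQT.trans hTS
  haveI : Finite Q := finite_of_le hQS
  obtain ⟨R, ⟨θ, hθ, hr⟩, hR⟩ := exists_isFullyNormalized_conj F hQS
  have hRT : R ≤ T := by
    rw [← hr]
    rintro _ ⟨x, rfl⟩
    exact stronglyClosed_map hTc hθ x (hQT x.2)
  have hRc : centralizerIn T R ≤ R := by
    have h := (tCentric_of_isCentric hinv hQc).2 θ hθ (hr.le.trans hRT)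
    rwa [hr] at h
  set e := isoOnto θ (F.injective_of_mem hθ) hr
  set b := MulAut.congr e α with hbdef
  have hbv : ∀ q : Q, b (e q) = e (α q) := fun q => by
    simp only [hbdef, MulAut.congr, MulEquiv.coe_mk, Equiv.coe_fn_mk, MulEquiv.trans_apply,
      MulEquiv.symm_apply_apply]
  have hb : b ∈ E.autGroup R := by
    obtain ⟨χ, hχ, hχx⟩ := hstr Q Q le_rfl hQT (autHom α) (autGroup_hom_mem hQT hα)
      (fun y => (α y).2) θ hθ
    refine (mem_autGroup hRT).2 ?_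
    have hle : R ≤ imgSub θ Q := by rw [imgSub_self]; exact hr.ge
    refine mem_congr (restrict_mem hχ hle) fun r => ?_
    obtain ⟨x, rfl⟩ := e.surjective r
    refine Eq.trans ?_ ((congrArg χ (Subtype.ext rfl : Subgroup.inclusion hle (e x) =
      ⟨θ (Subgroup.inclusion le_rfl x), hle (e x).2⟩)).trans (hχx x _)).symm
    rw [autHom_apply, hbv]
    rfl
  have hbco : (orderOf b).Coprime p := by rwa [hbdef, MulEquiv.orderOf_eq]
  obtain ⟨hRS, β, hβd, hβb, hβco⟩ := (exists_dispLift hS hE hRT hR hb).exists_coprime hbco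
  have hβ : β ∈ trivLift F hRS := ⟨hβd.1, hβd.2.1, fun x hx =>
    hRc ⟨hβd.2.2 x hx, Subgroup.mul_mem _ (Subgroup.inv_mem _ hx.2)
      (apply_mem_centralizerIn_of_iff hRS hβd.2.1 x hx).2⟩⟩
  have hRfc := isFullyCentralized_of_isFullyNormalized hS hF hR
  obtain ⟨ψ, hψ, hag⟩ := (isReceptive_of_isFullyCentralized hS hF hRfc).2 Q θ hθ hr
  have hWX : adj Q y ≤ extender S Q θ := sup_le (le_extender hθ)
    ((Subgroup.zpowers_le.2 (centralizerIn_anti hQT hy)).trans (centralizerIn_le_extender θ))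
  set Θ := ψ.comp (Subgroup.inclusion hWX) with hΘdef
  have hΘ : Θ ∈ F.Hom (adj Q y) := restrict_mem hψ hWX
  have hΘQ : ∀ q : Q, Θ (Subgroup.inclusion le_sup_left q) = (e q : Ω) := fun q => hag q q.2 _
  obtain ⟨τ, hτ, hτr, hτa, -⟩ := exists_inverse hΘ (rfl : Θ.range = Θ.range)
  set y' := Θ (adjPt Q y) with hy'
  have hy'C : y' ∈ centralizerIn S R := by
    have h := apply_mem_centralizerIn (P := Q) hΘ (adjPt Q y) (centralizerIn_anti hQT hy).2
    rwa [imgSub_of_agree le_sup_left (φ := θ) fun x hP hN => hΘQ ⟨x, hP⟩, hr] at h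
  set R₀ := Subgroup.zpowers y' with hR₀
  have hR₀C : R₀ ≤ centralizerIn S R := Subgroup.zpowers_le.2 hy'C
  have hle : R₀ ⊔ R ≤ Θ.range := sup_le (Subgroup.zpowers_le.2 ⟨_, rfl⟩) (by
    intro r hr'
    obtain ⟨q, hq⟩ := e.surjective ⟨r, hr'⟩
    exact ⟨_, (hΘQ q).trans (congrArg Subtype.val hq)⟩)
  set r₀ : R₀ := ⟨y', Subgroup.mem_zpowers y'⟩
  -- the shift of each transported lift
  have key : ∀ γ ∈ F.autGroup (adj Q y),
      (∀ q : Q, γ (Subgroup.inclusion le_sup_left q) = Subgroup.inclusion le_sup_left (α q)) →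
      ∀ z : Q, γ (adjPt Q y) = adjPt Q y * Subgroup.inclusion le_sup_left z →
      ∃ hm : y' * (e z : Ω) ∈ centralizerIn S R, shiftHom hβ ⟨_, hm⟩ =
        shiftHom hβ ⟨(β ⟨y', Subgroup.mem_sup_right hy'C⟩ : Ω),
          apply_mem_centralizerIn_of_iff hRS hβ.2.1 _ hy'C⟩ := by
    intro γ hγ hγQ z hz
    haveI : Finite (adj Q y) := finite_of_le (adj_le hQS hy.1)
    obtain ⟨μ, hμ, hμx⟩ := exists_comp (restrict_mem hτ hle)
      (autGroup_hom_mem (adj_le hQS hy.1) hγ) fun x => hτr.le ⟨_, rfl⟩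
    obtain ⟨ν, hν, hνx⟩ := exists_comp hμ hΘ fun x => by
      rw [hμx]; exact (γ _).2
    have hνv : ∀ (x : (R₀ ⊔ R : Subgroup Ω)) (w : adj Q y), Θ w = x → ν x = Θ (γ w) := by
      intro x w hw
      rw [hνx]
      refine congrArg Θ (Subtype.ext ?_)
      show μ x = _
      rw [hμx, autHom_apply]
      refine congrArg (fun v : adj Q y => (γ v : Ω)) (Subtype.ext ?_)
      exact (congrArg τ (Subtype.ext hw.symm : Subgroup.inclusion hle x =
        (⟨Θ w, w, rfl⟩ : Θ.range))).trans (hτa w _)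
    have hνy : ν (Subgroup.inclusion le_sup_left r₀) = y' * (e z : Ω) := by
      rw [hνv _ (adjPt Q y) rfl, hz, map_mul, hΘQ]
    have hνR : ∀ x : R, ν (Subgroup.inclusion le_sup_right x) =
        (β (Subgroup.inclusion le_sup_left x) : Ω) := by
      intro x
      obtain ⟨q, rfl⟩ := e.surjective x
      rw [hνv _ (Subgroup.inclusion le_sup_left q) (hΘQ q), hγQ, hΘQ, hβb, hbv]
    have hm : y' * (e z : Ω) ∈ centralizerIn S R := by
      refine ⟨hνy ▸ val_mem hν _, ?_⟩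
      intro x hx
      obtain ⟨q, hq⟩ := (e.trans (MulEquiv.refl R)).surjective ⟨x, hx⟩
      obtain ⟨q', rfl⟩ := α.surjective q
      have hc : Commute (Subgroup.inclusion le_sup_left q' : adj Q y) (adjPt Q y) :=
        Subtype.ext (hy.2 _ (hQT q'.2))
      have h := ((hc.map γ).map Θ).eq
      rw [hγQ, hz, map_mul, hΘQ, hΘQ] at h
      rw [show x = (e (α q') : Ω) from (congrArg Subtype.val hq).symm]
      exact h
    refine ⟨hm, ?_⟩
    have h := shiftHom_agree hS hF hRfc hβ hβco hR₀C hν hνR r₀ (hνy.symm ▸ hm)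
    exact (congrArg (shiftHom hβ) (Subtype.ext hνy.symm)).trans h
  obtain ⟨hm₁, hk₁⟩ := key γ₁ hγ₁ h₁ z₁ hz₁
  obtain ⟨hm₂, hk₂⟩ := key γ₂ hγ₂ h₂ z₂ hz₂
  set zz := e (z₁⁻¹ * z₂) with hzz
  have hzC : (zz : Ω) ∈ centralizerIn S R := by
    have h := mul_mem (inv_mem hm₁) hm₂
    rwa [mul_inv_rev, mul_assoc, inv_mul_cancel_left,
      show (e z₁ : Ω)⁻¹ * (e z₂ : Ω) = (zz : Ω) by rw [hzz, map_mul, map_inv]; rfl] at h
  have h1 : shiftHom hβ ⟨(zz : Ω), hzC⟩ = 1 := by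
    rw [show (⟨(zz : Ω), hzC⟩ : centralizerIn S R) = ⟨_, hm₁⟩⁻¹ * ⟨_, hm₂⟩ from Subtype.ext (by
      rw [Subgroup.coe_mul, InvMemClass.coe_inv, mul_inv_rev, mul_assoc, inv_mul_cancel_left]
      show ((e (z₁⁻¹ * z₂) : R) : Ω) = _
      rw [map_mul, map_inv]
      rfl), map_mul, map_inv, hk₁, hk₂, inv_mul_cancel]
  have h2 : b zz = zz := Subtype.ext ((hβb zz).symm.trans ((shiftHom_eq_one_iff hβ _).1 h1))
  rw [hzz, hbv] at h2
  exact e.injective h2

/-- Lifts of order prime to `p` are unique. -/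
theorem lift_unique [Fact p.Prime] [Finite S] (hS : IsPGroup p S) (hE : E.IsNormalIn F p)
    {Q : Subgroup Ω} (hQc : E.IsCentric Q) {y : Ω} (hy : y ∈ centralizerIn S T) {α : MulAut Q}
    (hα : α ∈ E.autGroup Q) {γ₁ γ₂ : MulAut (adj Q y)}
    (hγ₁ : γ₁ ∈ F.autGroup (adj Q y)) (hγ₂ : γ₂ ∈ F.autGroup (adj Q y))
    (h₁ : ∀ q : Q, γ₁ (Subgroup.inclusion le_sup_left q) = Subgroup.inclusion le_sup_left (α q))
    (h₂ : ∀ q : Q, γ₂ (Subgroup.inclusion le_sup_left q) = Subgroup.inclusion le_sup_left (α q))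
    (hd₁ : y⁻¹ * (γ₁ (adjPt Q y) : Ω) ∈ Q) (hd₂ : y⁻¹ * (γ₂ (adjPt Q y) : Ω) ∈ Q)
    (hc₁ : (orderOf γ₁).Coprime p) (hc₂ : (orderOf γ₂).Coprime p) : γ₁ = γ₂ := by
  have hTS := hE.1.2.2.2.1.1
  have hQT : Q ≤ T := hQc.1
  set z₁ : Q := ⟨_, hd₁⟩ with hz₁'
  set z₂ : Q := ⟨_, hd₂⟩ with hz₂'
  have hz₁ : γ₁ (adjPt Q y) = adjPt Q y * Subgroup.inclusion le_sup_left z₁ :=
    Subtype.ext (mul_inv_cancel_left y _).symm
  have hz₂ : γ₂ (adjPt Q y) = adjPt Q y * Subgroup.inclusion le_sup_left z₂ :=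
    Subtype.ext (mul_inv_cancel_left y _).symm
  have hαz := fixed_disp_diff hS hE hQc hy hα (coprime_of_agree le_sup_left h₁ hc₁) hγ₁ hγ₂ h₁ h₂
    hz₁ hz₂
  set z := z₁⁻¹ * z₂ with hz
  have hy2 : γ₂ (adjPt Q y) = γ₁ (adjPt Q y * Subgroup.inclusion le_sup_left z) := by
    rw [map_mul, h₁, hαz, hz₁, hz₂, mul_assoc, hz, ← map_mul, mul_inv_cancel_left]
  set n := γ₁⁻¹ * γ₂ with hn
  have hnQ : ∀ q : Q, n (Subgroup.inclusion le_sup_left q) = Subgroup.inclusion le_sup_left q := by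
    intro q
    rw [hn, MulAut.mul_apply, h₂, ← h₁, MulAut.inv_apply_self]
  have hny : n (adjPt Q y) = adjPt Q y * Subgroup.inclusion le_sup_left z := by
    rw [hn, MulAut.mul_apply, hy2, MulAut.inv_apply_self]
  -- the displacement centralizes `Q`
  have hzc : ∀ q : Q, Commute q z₁ := by
    intro q
    obtain ⟨q', rfl⟩ := α.surjective q
    have hc : Commute (Subgroup.inclusion le_sup_left q' : adj Q y) (adjPt Q y) :=
      Subtype.ext (hy.2 _ (hQT q'.2))
    have h := hc.map γ₁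
    rw [h₁, hz₁] at h
    refine Subgroup.inclusion_injective (le_sup_left : Q ≤ adj Q y) ?_
    rw [map_mul, map_mul]
    have hc2 : Commute (Subgroup.inclusion le_sup_left (α q') : adj Q y) (adjPt Q y) :=
      Subtype.ext (hy.2 _ (hQT (α q').2))
    have h3 := hc2.inv_right.mul_right h
    rw [inv_mul_cancel_left] at h3
    exact h3.eq
  have hcomm : Commute γ₁ n := by
    refine aut_ext (fun q => ?_) ?_
    · show γ₁ (n _) = n (γ₁ _)
      rw [hnQ, h₁, hnQ]
    · show γ₁ (n _) = n (γ₁ _)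
      rw [hny, map_mul γ₁, h₁, hαz, hz₁, map_mul n, hnQ, hny,
        mul_assoc, mul_assoc, ← map_mul, ← map_mul, (hzc z).eq]
  have hco : (orderOf n).Coprime p := by
    have h12 : Commute γ₁⁻¹ γ₂ := by
      rw [show γ₂ = γ₁ * n by rw [hn, mul_inv_cancel_left]]
      exact ((Commute.refl γ₁).mul_right hcomm).inv_left
    refine Nat.Coprime.coprime_dvd_left (h12.orderOf_mul_dvd_lcm.trans (Nat.lcm_dvd_mul _ _)) ?_
    rw [orderOf_inv]
    exact Nat.Coprime.mul_left hc₁ hc₂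
  obtain ⟨k, hk⟩ := (hS.to_le (hQT.trans hTS)) z
  have hpow : ∀ m : ℕ, (n ^ m) (adjPt Q y) =
      adjPt Q y * Subgroup.inclusion le_sup_left (z ^ m) := by
    intro m
    induction m with
    | zero => rw [pow_zero, pow_zero, map_one, mul_one]; rfl
    | succ m ih =>
      rw [pow_succ', MulAut.mul_apply, ih, map_mul, hny, hnQ, mul_assoc, ← map_mul, ← pow_succ']
  have hnk : n ^ p ^ k = 1 := by
    refine aut_ext (fun q => ?_) ?_
    · rw [pow_fix (hnQ q)]; rfl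
    · rw [hpow, hk, map_one, mul_one]; rfl
  have h1 : n = 1 := orderOf_eq_one_iff.1 (Nat.eq_one_of_dvd_coprimes (hco.pow_right k) dvd_rfl
    (orderOf_dvd_of_pow_eq_one hnk))
  rw [hn] at h1
  exact inv_mul_eq_one.1 h1

/-- If an automorphism of order prime to `p` has an extension fixing `y`, its lift of order prime to
`p` fixes `y`. -/
theorem fix_of_coprime [Fact p.Prime] [Finite S] (hS : IsPGroup p S) (hE : E.IsNormalIn F p)
    {Q : Subgroup Ω} (hQc : E.IsCentric Q) {y : Ω} (hy : y ∈ centralizerIn S T) {α : MulAut Q}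
    (hα : α ∈ E.autGroup Q) {γ : MulAut (adj Q y)} (hγ : γ ∈ F.autGroup (adj Q y))
    (hγα : ∀ q : Q, γ (Subgroup.inclusion le_sup_left q) = Subgroup.inclusion le_sup_left (α q))
    (hd : y⁻¹ * (γ (adjPt Q y) : Ω) ∈ Q) (hco : (orderOf γ).Coprime p)
    (hfix : autHom α ∈ extHom F (Subgroup.zpowers y) T ⊥ Q) : (γ (adjPt Q y) : Ω) = y := by
  obtain ⟨ψ, hψ, hψα, hψy⟩ := exists_of_mem_extHom hfix
  haveI := finite_mulAut (S := S) (src_le hψ)
  obtain ⟨δ, hδ, hδx⟩ := exists_aut_adj hψ le_rfl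
    (fun q => (hψα q).symm ▸ (α q).2)
    (by rw [show Subgroup.inclusion le_rfl (adjPt Q y) = adjPt Q y from rfl, hψy, inv_mul_cancel]
        exact one_mem Q)
  have hδQ : ∀ q : Q, δ (Subgroup.inclusion le_sup_left q) = Subgroup.inclusion le_sup_left (α q) :=
    fun q => Subtype.ext ((hδx _).trans (hψα q))
  have hδy : δ (adjPt Q y) = adjPt Q y := Subtype.ext ((hδx _).trans hψy)
  obtain ⟨n, hn, hnα⟩ := TrivialAction.exists_coprime_extension (p := p)
    (le_sup_left : Q ≤ adj Q y) (fun q => congrArg Subtype.val (hδQ q))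
    (coprime_of_agree le_sup_left hγα hco)
  have h := lift_unique hS hE hQc hy hα hγ (pow_mem hδ n) hγα (fun q => Subtype.ext (hnα q)) hd
    (by rw [pow_fix hδy, inv_mul_cancel]; exact one_mem Q) hco hn
  rw [h, pow_fix hδy]

end Cfsg.Agent.Lib.Fusion.SmallCentralizer
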